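import Cfsg.Prelude.Def_Characters
import Cfsg.Prelude.Def_Blocks
import Cfsg.Agent.Characters.Core

/-!
# S4834: the target predicate (helper687)

* `Good p S` : the conclusion of S4834 for the group `S` and the prime `p`;
* `Good.of_equiv` : invariance under isomorphisms;
* `good_of` : a convenient form with characters as functions and degrees as natural numbers.
-/

set_option autoImplicit false

namespace Cfsg.Agent.H687

open Cfsg

/-- The conclusion of S4834. -/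
def Good (p : ℕ) (S : Type*) [Group S] : Prop :=
  ∃ α β : Cfsg.IrrCharacter S, Cfsg.charDegree (α : S → ℂ) ≠ 1 ∧ Cfsg.charDegree (β : S → ℂ) ≠ 1 ∧
      ¬ p ∣ Cfsg.charDegree (α : S → ℂ) ∧ ¬ p ∣ Cfsg.charDegree (β : S → ℂ) ∧
      (∃ ψ : Cfsg.IrrCharacter (MulAut S), ∀ s : S, (ψ : MulAut S → ℂ) (MulAut.conj s) = (α : S → ℂ) s) ∧
      ¬ Cfsg.charDegree (β : S → ℂ) ∣ Cfsg.charDegree (α : S → ℂ) ∧
      (∀ φ : MulAut S, (∃ k : ℕ, orderOf φ = p ^ k) → ∀ s : S, (β : S → ℂ) (φ s) = (β : S → ℂ) s)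

theorem charDegree_of_eq {G : Type*} [Group G] {χ : G → ℂ} {n : ℕ} (h : χ 1 = n) : charDegree χ = n := by
  unfold charDegree
  rw [h]
  simp

theorem charDegree_eq {G : Type*} [Group G] {χ : G → ℂ} (hχ : IsCharacter G χ) : χ 1 = (charDegree χ : ℂ) := by
  obtain ⟨n, hn⟩ := Characters.Core.isCharacter_apply_one hχ
  rw [charDegree_of_eq hn, hn]

theorem Irr.one_eq {G : Type*} [Group G] (χ : IrrCharacter G) : (χ : G → ℂ) 1 = (charDegree (χ : G → ℂ) : ℂ) :=
  charDegree_eq (Characters.Core.isIrr_isCharacter χ.2)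

/-- The convenient form: characters as functions, degrees as natural numbers. -/
theorem good_of {p : ℕ} {S : Type*} [Group S] {α β : S → ℂ} (hα : IsIrrCharacter S α) (hβ : IsIrrCharacter S β)
    {a b : ℕ} (ha : α 1 = a) (hb : β 1 = b) (ha1 : a ≠ 1) (hb1 : b ≠ 1) (hpa : ¬ p ∣ a) (hpb : ¬ p ∣ b)
    (hext : ∃ ψ : MulAut S → ℂ, IsIrrCharacter (MulAut S) ψ ∧ ∀ s, ψ (MulAut.conj s) = α s) (hdvd : ¬ b ∣ a)
    (hinv : ∀ φ : MulAut S, (∃ k : ℕ, orderOf φ = p ^ k) → ∀ s, β (φ s) = β s) : Good p S := by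
  have h1 := charDegree_of_eq ha
  have h2 := charDegree_of_eq hb
  obtain ⟨ψ, hψ, hψα⟩ := hext
  refine ⟨⟨α, hα⟩, ⟨β, hβ⟩, ?_, ?_, ?_, ?_, ⟨⟨ψ, hψ⟩, hψα⟩, ?_, hinv⟩
  · show charDegree α ≠ 1; rwa [h1]
  · show charDegree β ≠ 1; rwa [h2]
  · show ¬ p ∣ charDegree α; rwa [h1]
  · show ¬ p ∣ charDegree β; rwa [h2]
  · show ¬ charDegree β ∣ charDegree α; rwa [h1, h2]

theorem charDegree_comp {G H : Type*} [Group G] [Group H] (e : G →* H) (χ : H → ℂ) :
    charDegree (χ ∘ e) = charDegree χ := by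
  unfold charDegree
  simp

/-- `Good` is invariant under isomorphisms. -/
theorem Good.of_equiv {p : ℕ} {S T : Type*} [Group S] [Group T] (e : S ≃* T) (h : Good p T) : Good p S := by
  obtain ⟨α, β, ha, hb, hpa, hpb, ⟨ψ, hψ⟩, hd, hinv⟩ := h
  have hα : IsIrrCharacter S ((α : T → ℂ) ∘ e) := Characters.Core.isIrr_comp e.toMonoidHom e.surjective α.2
  have hβ : IsIrrCharacter S ((β : T → ℂ) ∘ e) := Characters.Core.isIrr_comp e.toMonoidHom e.surjective β.2
  have hα1 : ((α : T → ℂ) ∘ e) 1 = (charDegree (α : T → ℂ) : ℂ) := by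
    rw [Function.comp_apply, map_one]; exact Irr.one_eq α
  have hβ1 : ((β : T → ℂ) ∘ e) 1 = (charDegree (β : T → ℂ) : ℂ) := by
    rw [Function.comp_apply, map_one]; exact Irr.one_eq β
  refine good_of hα hβ hα1 hβ1 ha hb hpa hpb ?_ hd ?_
  · refine ⟨(ψ : MulAut T → ℂ) ∘ (MulAut.congr e), Characters.Core.isIrr_comp (MulAut.congr e).toMonoidHom
      (MulAut.congr e).surjective ψ.2, fun s => ?_⟩
    have h1 : MulAut.congr e (MulAut.conj s) = MulAut.conj (e s) := by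
      ext t
      simp [MulAut.congr]
    rw [Function.comp_apply, h1, hψ]
    rfl
  · rintro φ ⟨k, hk⟩ s
    have h1 := hinv (MulAut.congr e φ) ⟨k, by
      rw [← hk]
      exact orderOf_injective (MulAut.congr e).toMonoidHom (MulAut.congr e).injective φ⟩ (e s)
    have h2 : (MulAut.congr e φ) (e s) = e (φ s) := by simp [MulAut.congr]
    rw [h2] at h1
    exact h1

end Cfsg.Agent.H687
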