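import Cfsg.Agent.H687.Good
import Cfsg.Agent.Characters.Core
import Cfsg.Agent.S0907
import Cfsg.Agent.S0910
import Cfsg.Agent.Blocks.ExistsModular
import Cfsg.Agent.Blocks.Central
import Cfsg.Agent.SmallSimple.SelfCentSum

/-!
# S4834: general lemmas (helper687)

* `autAct` : the action of `MulAut S` on the irreducible characters;
* `sum_fixed` : a sum of algebraic integers invariant under a `p`-group is congruent mod `p` to the sum over the fixed
  points;
* `exists_block_char` : `y` an `r`-singular element whose class is fixed by the `p`-group `P` of automorphisms: there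
  is a nontrivial `P`-invariant character of degree prime to `p` and not a power of `r`.
-/

set_option autoImplicit false

namespace Cfsg.Agent.H687

open Cfsg
open scoped ComplexConjugate

universe u

/-! ### the action of automorphisms -/

/-- The action of the automorphisms on the irreducible characters. -/
@[reducible] def autAct (S : Type u) [Group S] : MulAction (MulAut S) (IrrCharacter S) where
  smul φ χ := ⟨fun s => (χ : S → ℂ) ((φ⁻¹ : MulAut S) s), Characters.Core.isIrr_comp (φ⁻¹ : MulAut S).toMonoidHom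
    (φ⁻¹ : MulAut S).surjective χ.2⟩
  one_smul χ := Subtype.ext (funext fun s => rfl)
  mul_smul φ ψ χ := Subtype.ext (funext fun s => by
    show (χ : S → ℂ) (((φ * ψ)⁻¹ : MulAut S) s) = (χ : S → ℂ) ((ψ⁻¹ : MulAut S) ((φ⁻¹ : MulAut S) s))
    rw [mul_inv_rev]; rfl)

attribute [local instance] autAct

theorem autAct_apply {S : Type u} [Group S] (φ : MulAut S) (χ : IrrCharacter S) (s : S) :
    ((φ • χ : IrrCharacter S) : S → ℂ) s = (χ : S → ℂ) ((φ⁻¹ : MulAut S) s) := rfl

theorem smul_eq_iff {S : Type u} [Group S] (φ : MulAut S) (χ : IrrCharacter S) :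
    φ • χ = χ ↔ ∀ s, (χ : S → ℂ) (φ s) = (χ : S → ℂ) s := by
  constructor
  · intro h s
    have h1 := congrArg (fun θ : IrrCharacter S => (θ : S → ℂ) (φ s)) h
    simp only [autAct_apply, MulAut.inv_apply_self] at h1
    exact h1.symm
  · intro h
    refine Subtype.ext (funext fun s => ?_)
    rw [autAct_apply, ← h, MulAut.apply_inv_self]

theorem charDegree_smul {S : Type u} [Group S] (φ : MulAut S) (χ : IrrCharacter S) :
    charDegree ((φ • χ : IrrCharacter S) : S → ℂ) = charDegree (χ : S → ℂ) := by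
  unfold charDegree
  rw [autAct_apply, map_one]

theorem apply_eq_of_isConj {S : Type u} [Group S] (χ : IrrCharacter S) {x y : S} (h : IsConj x y) :
    (χ : S → ℂ) x = (χ : S → ℂ) y := by
  obtain ⟨c, rfl⟩ := isConj_iff.1 h
  exact (Characters.Core.isIrr_isClassFunction χ.2 x c).symm

/-- Inner automorphisms act trivially. -/
theorem conj_smul {S : Type u} [Group S] (g : S) (χ : IrrCharacter S) : MulAut.conj g • χ = χ := by
  rw [smul_eq_iff]
  intro s
  exact apply_eq_of_isConj χ (isConj_iff.2 ⟨g⁻¹, by simp [MulAut.conj_apply, mul_assoc]⟩)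

/-! ### sums over `p`-sets -/

section Sum

variable {Γ X : Type*} [Group Γ] [MulAction Γ X] [Fintype X] {p : ℕ} [Fact p.Prime]

open Classical in
/-- A `Γ`-invariant sum, `Γ` a `p`-group. -/
theorem sum_fixed (hΓ : IsPGroup p Γ) (F : X → ℂ) (hF : ∀ (g : Γ) (x : X), F (g • x) = F x)
    (hint : ∀ x, IsIntegral ℤ (F x)) :
    ∃ z : ℂ, IsIntegral ℤ z ∧
      ∑ x, F x = (∑ x, if x ∈ MulAction.fixedPoints Γ X then F x else 0) + (p : ℂ) * z := by
  have hF' : ∀ x, F x = (if x ∈ MulAction.fixedPoints Γ X then F x else 0) +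
      (if x ∈ MulAction.fixedPoints Γ X then 0 else F x) := by
    intro x
    split_ifs <;> simp
  obtain ⟨G, hG⟩ : ∃ G : X → ℂ, ∀ x, G x = if x ∈ MulAction.fixedPoints Γ X then 0 else F x := ⟨_, fun _ => rfl⟩
  -- one orbit
  have key : ∀ ω : Quotient (MulAction.orbitRel Γ X), ∃ z : ℂ, IsIntegral ℤ z ∧
      ∑ x with (Quotient.mk (MulAction.orbitRel Γ X) x = ω), G x = (p : ℂ) * z := by
    intro ω
    induction ω using Quotient.inductionOn with
    | h x₀ =>
    by_cases hx : x₀ ∈ MulAction.fixedPoints Γ X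
    · refine ⟨0, isIntegral_zero, ?_⟩
      rw [mul_zero]
      refine Finset.sum_eq_zero fun x hx' => ?_
      rw [Finset.mem_filter] at hx'
      have h1 : x ∈ MulAction.orbit Γ x₀ := Quotient.exact hx'.2
      obtain ⟨g, rfl⟩ := h1
      have h2 : g • x₀ = x₀ := hx g
      show G (g • x₀) = 0
      rw [h2, hG, if_pos hx]
    · obtain ⟨k, hk⟩ := hΓ.card_orbit (α := X) x₀
      have hk0 : k ≠ 0 := by
        rintro rfl
        rw [pow_zero] at hk
        apply hx
        intro g
        have h1 : Subsingleton (MulAction.orbit Γ x₀) := (Nat.card_eq_one_iff_unique.1 hk).1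
        have h2 := h1.elim ⟨g • x₀, MulAction.mem_orbit x₀ g⟩ ⟨x₀, MulAction.mem_orbit_self x₀⟩
        exact congrArg Subtype.val h2
      refine ⟨(p : ℂ) ^ (k - 1) * F x₀, ?_, ?_⟩
      · exact ((isIntegral_algebraMap (R := ℤ) (A := ℂ) (x := (p : ℤ))).pow _).mul (hint _) |> fun h => by simpa using h
      · have h1 : ∀ x ∈ Finset.univ.filter (fun x => Quotient.mk (MulAction.orbitRel Γ X) x =
            Quotient.mk (MulAction.orbitRel Γ X) x₀), G x = F x₀ := by
          intro x hx'
          rw [Finset.mem_filter] at hx'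
          obtain ⟨g, rfl⟩ : x ∈ MulAction.orbit Γ x₀ := Quotient.exact hx'.2
          show G (g • x₀) = F x₀
          have h2 : ¬ (g • x₀) ∈ MulAction.fixedPoints Γ X := by
            intro h3
            apply hx
            have h4 : g⁻¹ • (g • x₀) = g • x₀ := h3 g⁻¹
            rw [inv_smul_smul] at h4
            rw [← h4] at h3
            exact h3
          rw [hG, if_neg h2, hF]
        rw [Finset.sum_congr rfl h1, Finset.sum_const, nsmul_eq_mul, ← mul_assoc, ← pow_succ',
          Nat.sub_add_cancel (Nat.pos_of_ne_zero hk0), ← Nat.cast_pow, ← hk]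
        congr 2
        exact (Nat.subtype_card _ fun x => by
          rw [Finset.mem_filter]
          exact ⟨fun h => Quotient.exact h.2, fun h => ⟨Finset.mem_univ _, Quotient.sound h⟩⟩).symm
  choose z hz1 hz2 using key
  refine ⟨∑ ω, z ω, IsIntegral.sum _ fun ω _ => hz1 ω, ?_⟩
  rw [Finset.mul_sum]
  have h1 : ∑ x, F x = (∑ x, if x ∈ MulAction.fixedPoints Γ X then F x else 0) + ∑ x, G x := by
    rw [← Finset.sum_add_distrib]
    exact Finset.sum_congr rfl fun x _ => by rw [hG]; exact hF' x
  rw [h1]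
  congr 1
  rw [← Finset.sum_fiberwise Finset.univ (Quotient.mk (MulAction.orbitRel Γ X)) G]
  exact Finset.sum_congr rfl fun ω _ => hz2 ω

end Sum

/-! ### the principal block -/

theorem centralizer_map_index {S : Type u} [Group S] (φ : MulAut S) (g : S) :
    (Subgroup.centralizer ({φ g} : Set S)).index = (Subgroup.centralizer ({g} : Set S)).index := by
  have h1 : Subgroup.centralizer ({φ g} : Set S) = (Subgroup.centralizer ({g} : Set S)).map φ.toMonoidHom := by
    ext x
    rw [Subgroup.mem_map, Subgroup.mem_centralizer_singleton_iff]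
    constructor
    · intro h
      refine ⟨(φ⁻¹ : MulAut S) x, ?_, MulAut.apply_inv_self _ φ x⟩
      rw [Subgroup.mem_centralizer_singleton_iff]
      apply φ.injective
      rw [map_mul, map_mul, MulAut.apply_inv_self]
      exact h
    · rintro ⟨y, hy, rfl⟩
      rw [Subgroup.mem_centralizer_singleton_iff] at hy
      show φ y * φ g = φ g * φ y
      rw [← map_mul, hy, map_mul]
  rw [h1]
  exact Subgroup.index_map_equiv _ φ

theorem centralChar_smul {S : Type u} [Group S] (φ : MulAut S) (χ : IrrCharacter S) (g : S) :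
    centralChar ((φ • χ : IrrCharacter S) : S → ℂ) g = centralChar (χ : S → ℂ) ((φ⁻¹ : MulAut S) g) := by
  unfold centralChar
  rw [autAct_apply, autAct_apply, map_one, centralizer_map_index]

theorem smul_mem_principalBlock {S : Type u} [Group S] (M : Ideal AlgInt) (φ : MulAut S) (χ : IrrCharacter S) :
    φ • χ ∈ principalBlock M S ↔ χ ∈ principalBlock M S := by
  have key : ∀ (φ : MulAut S) (χ : IrrCharacter S), χ ∈ principalBlock M S → φ • χ ∈ principalBlock M S := by
    intro φ χ h g
    have h1 := h ((φ⁻¹ : MulAut S) g)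
    rw [centralChar_smul]
    have h2 : centralChar (fun _ : S => (1 : ℂ)) g = centralChar (fun _ : S => (1 : ℂ)) ((φ⁻¹ : MulAut S) g) := by
      unfold centralChar
      rw [centralizer_map_index]
    rw [h2]
    exact h1
  constructor
  · intro h
    have := key φ⁻¹ _ h
    rwa [inv_smul_smul] at this
  · exact key φ χ

theorem not_isIntegral_inv {p : ℕ} (hp : 2 ≤ p) {z : ℂ} (hz : IsIntegral ℤ z) (h : 1 + (p : ℂ) * z = 0) : False := by
  have hp0 : (p : ℂ) ≠ 0 := by
    have : p ≠ 0 := by omega
    exact_mod_cast this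
  have h1 : z = ((-(1 : ℚ) / p : ℚ) : ℂ) := by
    push_cast
    field_simp
    linear_combination h
  rw [h1] at hz
  have h2 : IsIntegral ℤ (-(1 : ℚ) / p) := by
    rw [← eq_ratCast (algebraMap ℚ ℂ)] at hz
    exact (isIntegral_algebraMap_iff (algebraMap ℚ ℂ).injective).1 hz
  obtain ⟨n, hn⟩ := IsIntegrallyClosed.isIntegral_iff.1 h2
  have hq : (p : ℚ) ≠ 0 := by
    have : p ≠ 0 := by omega
    exact_mod_cast this
  have h3 : (n : ℚ) * p = -1 := by
    have h4 : (n : ℚ) = -(1 : ℚ) / p := by simpa using hn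
    rw [h4]
    field_simp
  have h5 : n * (p : ℤ) = -1 := by exact_mod_cast h3
  have h6 : (p : ℤ) ∣ 1 := ⟨-n, by linarith⟩
  have h7 := Int.le_of_dvd one_pos h6
  omega

/-- **The counting lemma** for the principal `r`-block. -/
theorem exists_block_char {S : Type u} [Group S] [Finite S] [IsSimpleGroup S] (hna : ∃ a b : S, a * b ≠ b * a)
    {p r : ℕ} [hp : Fact p.Prime] [hr : Fact r.Prime] (P : Subgroup (MulAut S)) (hP : IsPGroup p P) (y : S)
    (hy : r ∣ orderOf y) (hfix : ∀ φ ∈ P, IsConj (φ y) y) :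
    ∃ β : IrrCharacter S, charDegree (β : S → ℂ) ≠ 1 ∧ ¬ p ∣ charDegree (β : S → ℂ) ∧
      (∀ k : ℕ, charDegree (β : S → ℂ) ≠ r ^ k) ∧ ∀ φ ∈ P, ∀ s, (β : S → ℂ) (φ s) = (β : S → ℂ) s := by
  classical
  obtain ⟨M, hM⟩ := Blocks.ExistsModular.exists_isPModular hr.1
  have : Finite (IrrCharacter S) := Characters.Core.finite_irr
  let _ : Fintype (IrrCharacter S) := Fintype.ofFinite _
  let _ : MulAction P (IrrCharacter S) := MulAction.compHom _ P.subtype
  have hact : ∀ (φ : P) (χ : IrrCharacter S), φ • χ = (φ : MulAut S) • χ := fun _ _ => rfl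
  obtain ⟨F, hF⟩ : ∃ F : IrrCharacter S → ℂ, ∀ χ, F χ = if χ ∈ principalBlock M S then
      (χ : S → ℂ) 1 * conj ((χ : S → ℂ) y) else 0 := ⟨_, fun _ => rfl⟩
  have hsum : ∑ χ, F χ = 0 := by
    have h1 := S0907.result r M hM (principalBlock M S) ⟨⟨1, Characters.Core.isIrr_one⟩, rfl⟩ 1 y
      (by rw [orderOf_one]; exact fun h => hr.1.one_lt.ne' (Nat.dvd_one.1 h)) hy
    rw [finsum_mem_def, finsum_eq_sum_of_fintype] at h1
    rw [← h1]
    refine Finset.sum_congr rfl fun χ _ => ?_
    rw [hF, Set.indicator_apply]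
  have hint : ∀ χ, IsIntegral ℤ (F χ) := by
    intro χ
    rw [hF]
    split_ifs
    · refine (Blocks.Central.isIntegral_irr χ.2 1).mul ?_
      have h2 : conj ((χ : S → ℂ) y) = (χ : S → ℂ) y⁻¹ :=
        (Characters.Core.isCharacter_apply_inv (Characters.Core.isIrr_isCharacter χ.2) y).symm
      rw [h2]
      exact Blocks.Central.isIntegral_irr χ.2 _
    · exact isIntegral_zero
  have hinv : ∀ (φ : P) (χ : IrrCharacter S), F (φ • χ) = F χ := by
    intro φ χ
    rw [hF, hF, hact]
    simp only [smul_mem_principalBlock]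
    have h3 : ((φ : MulAut S) • χ : IrrCharacter S).1 y = (χ : S → ℂ) y := by
      rw [autAct_apply]
      apply apply_eq_of_isConj
      have h4 := hfix _ (inv_mem φ.2)
      exact h4
    have h4 : ((φ : MulAut S) • χ : IrrCharacter S).1 1 = (χ : S → ℂ) 1 := by
      rw [autAct_apply, map_one]
    rw [h3, h4]
  obtain ⟨z, hz, hsum2⟩ := sum_fixed (p := p) hP F hinv hint
  rw [hsum] at hsum2
  by_contra hcon
  push Not at hcon
  -- the trivial character
  obtain ⟨χ₀, hχ₀⟩ : ∃ χ₀ : IrrCharacter S, χ₀ = ⟨1, Characters.Core.isIrr_one⟩ := ⟨_, rfl⟩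
  have h0fix : χ₀ ∈ MulAction.fixedPoints P (IrrCharacter S) := by
    intro φ
    rw [hact, smul_eq_iff, hχ₀]
    intro s
    rfl
  have h0mem : χ₀ ∈ principalBlock M S := by
    intro g
    rw [hχ₀]
    have h5 : centralChar (fun _ : S => (1 : ℂ)) g - centralChar ((⟨1, Characters.Core.isIrr_one⟩ :
        IrrCharacter S) : S → ℂ) g = 0 := sub_self _
    rw [h5]
    exact ⟨0, 1, M.zero_mem, fun h => hM.2.1.ne_top ((Ideal.eq_top_iff_one M).2 h), by simp⟩
  have hterm : ∀ χ : IrrCharacter S, ∃ w : ℂ, IsIntegral ℤ w ∧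
      (if χ ∈ MulAction.fixedPoints P (IrrCharacter S) then F χ else 0) = (if χ = χ₀ then 1 else 0) + (p : ℂ) * w := by
    intro χ
    by_cases h1 : χ = χ₀
    · refine ⟨0, isIntegral_zero, ?_⟩
      rw [h1, if_pos h0fix, if_pos rfl, hF, if_pos h0mem, hχ₀]
      simp
    · rw [if_neg h1]
      by_cases h2 : χ ∈ MulAction.fixedPoints P (IrrCharacter S)
      · rw [if_pos h2]
        by_cases h3 : χ ∈ principalBlock M S
        · rw [hF, if_pos h3]
          -- the degree is divisible by `p`
          have hd1 : charDegree (χ : S → ℂ) ≠ 1 := by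
            intro h4
            apply h1
            have h5 : (χ : S → ℂ) 1 = (r : ℂ) ^ 0 := by rw [Irr.one_eq, h4]; simp
            have h6 := S0910.result r M hM hna χ h3 0 h5
            rw [hχ₀]
            exact Subtype.ext h6
          have hd2 : ∀ k : ℕ, charDegree (χ : S → ℂ) ≠ r ^ k := by
            intro k h4
            apply h1
            have h5 : (χ : S → ℂ) 1 = (r : ℂ) ^ k := by rw [Irr.one_eq, h4]; push_cast; rfl
            have h6 := S0910.result r M hM hna χ h3 k h5
            rw [hχ₀]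
            exact Subtype.ext h6
          have hd3 : ∀ φ ∈ P, ∀ s, (χ : S → ℂ) (φ s) = (χ : S → ℂ) s := by
            intro φ hφ
            rw [← smul_eq_iff]
            exact h2 ⟨φ, hφ⟩
          have hd4 : p ∣ charDegree (χ : S → ℂ) := by
            by_contra h4
            obtain ⟨φ, hφ, s, hs⟩ := hcon χ hd1 h4 hd2
            exact hs (hd3 φ hφ s)
          obtain ⟨c, hc⟩ := hd4
          refine ⟨(c : ℂ) * conj ((χ : S → ℂ) y), ?_, ?_⟩
          · refine IsIntegral.mul ?_ ?_
            · simpa using (isIntegral_algebraMap (R := ℤ) (A := ℂ) (x := (c : ℤ)))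
            · have h2 : conj ((χ : S → ℂ) y) = (χ : S → ℂ) y⁻¹ :=
                (Characters.Core.isCharacter_apply_inv (Characters.Core.isIrr_isCharacter χ.2) y).symm
              rw [h2]
              exact Blocks.Central.isIntegral_irr χ.2 _
          · rw [Irr.one_eq, hc]
            push_cast
            ring
        · exact ⟨0, isIntegral_zero, by rw [hF, if_neg h3]; simp⟩
      · rw [if_neg h2]
        exact ⟨0, isIntegral_zero, by simp⟩
  choose w hw1 hw2 using hterm
  rw [Finset.sum_congr rfl fun χ _ => hw2 χ, Finset.sum_add_distrib, Finset.sum_ite_eq' Finset.univ χ₀,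
    if_pos (Finset.mem_univ _), ← Finset.mul_sum, add_assoc, ← mul_add] at hsum2
  exact not_isIntegral_inv hp.1.two_le ((IsIntegral.sum _ fun χ _ => hw1 χ).add hz) hsum2.symm

end Cfsg.Agent.H687
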