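import Cfsg.Agent.Characters.Core
import Cfsg.Agent.OddOrderCharacters.Clifford

/-!
# S4834: extension of characters by comparison of norms (helper687)

* `inner_mono` : `⟨X, Y⟩_G ≤ ⟨X ∘ f, Y ∘ f⟩_H` for characters `X`, `Y` of `G` and `f : H →* G`;
* `exists_ext_of_norm` : if `Θ` and `Θ ∘ f` have the same norm, every irreducible constituent of `Θ ∘ f` is of the form
  `Ψ ∘ f`, `Ψ` irreducible;
* `exists_irr_constituent` : constituents with prescribed property of the degree.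
-/

set_option autoImplicit false

namespace Cfsg.Agent.H687

open Cfsg Cfsg.Agent.Characters.Core
open scoped ComplexConjugate

universe u v

theorem inner_nat_ne_zero {G : Type u} [Group G] [Fintype G] {X : G → ℂ} (hX : IsCharacter G X) (h0 : X ≠ 0) :
    ∃ n : ℕ, 0 < n ∧ classInner X X = n := by
  obtain ⟨n, hn⟩ := classInner_isNat hX hX
  refine ⟨n, Nat.pos_of_ne_zero ?_, hn⟩
  rintro rfl
  exact h0 (classInner_self_eq_zero (by rw [hn]; simp))

theorem comb_apply {G : Type u} [Group G] [Fintype (IrrCharacter G)] (a : IrrCharacter G → ℕ) (g : G) :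
    (∑ ψ : IrrCharacter G, a ψ • (ψ : G → ℂ)) g = ∑ ψ : IrrCharacter G, (a ψ : ℂ) * (ψ : G → ℂ) g := by
  rw [Finset.sum_apply]
  exact Finset.sum_congr rfl fun c _ => by rw [Pi.smul_apply, nsmul_eq_mul]

theorem combC_apply {G : Type u} {H : Type v} [Group G] [Group H] [Fintype (IrrCharacter G)] (f : H →* G)
    (a : IrrCharacter G → ℕ) (h : H) :
    (∑ ψ : IrrCharacter G, (a ψ : ℂ) • ((ψ : G → ℂ) ∘ f)) h = ∑ ψ : IrrCharacter G, (a ψ : ℂ) * (ψ : G → ℂ) (f h) := by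
  rw [Finset.sum_apply]
  rfl

section

variable {G : Type u} {H : Type v} [Group G] [Group H] [Fintype G] [Fintype H] (f : H →* G)

omit [Fintype G] [Fintype H] in
theorem comp_ne_zero {X : G → ℂ} (hX : IsIrrCharacter G X) : X ∘ f ≠ 0 := by
  intro h
  have h1 := congrFun h 1
  simp only [Function.comp_apply, map_one, Pi.zero_apply] at h1
  exact isIrr_apply_one_ne_zero hX h1

theorem inner_mono {X Y : G → ℂ} (hX : IsCharacter G X) (hY : IsCharacter G Y) :
    ∃ a b : ℕ, classInner X Y = a ∧ classInner (X ∘ f) (Y ∘ f) = b ∧ a ≤ b := by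
  classical
  have : Finite (IrrCharacter G) := finite_irr
  let _ : Fintype (IrrCharacter G) := Fintype.ofFinite _
  obtain ⟨a, ha⟩ := exists_nat_comb hX
  obtain ⟨b, hb⟩ := exists_nat_comb hY
  have h1 : classInner X Y = ((∑ ψ : IrrCharacter G, a ψ * b ψ : ℕ) : ℂ) := by
    have h2 := classInner_sum_smul_sum_smul (G := G) (fun ψ => (a ψ : ℂ)) (fun ψ => (b ψ : ℂ))
    simp only [Nat.cast_smul_eq_nsmul] at h2
    rw [ha, hb, h2]
    push_cast
    refine Finset.sum_congr rfl fun ψ _ => ?_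
    rw [Complex.conj_natCast]
  have hn : ∀ φ ψ : IrrCharacter G, ∃ n : ℕ, classInner ((φ : G → ℂ) ∘ f) ((ψ : G → ℂ) ∘ f) = n ∧
      (φ = ψ → 0 < n) := by
    intro φ ψ
    obtain ⟨n, hn⟩ := classInner_isNat (isCharacter_comp f (isIrr_isCharacter φ.2))
      (isCharacter_comp f (isIrr_isCharacter ψ.2))
    refine ⟨n, hn, ?_⟩
    rintro rfl
    obtain ⟨m, hm, hm2⟩ := inner_nat_ne_zero (isCharacter_comp f (isIrr_isCharacter φ.2)) (comp_ne_zero f φ.2)
    have h3 : (m : ℂ) = n := hm2.symm.trans hn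
    have h4 : m = n := by exact_mod_cast h3
    omega
  choose n hn1 hn2 using hn
  have h2 : classInner (X ∘ f) (Y ∘ f) = ((∑ φ : IrrCharacter G, ∑ ψ : IrrCharacter G, a φ * (b ψ * n φ ψ) : ℕ) : ℂ) := by
    have e1 : X ∘ f = ∑ φ : IrrCharacter G, (a φ : ℂ) • ((φ : G → ℂ) ∘ f) := by
      funext h
      rw [Function.comp_apply, combC_apply, ← comb_apply, ← ha]
    have e2 : Y ∘ f = ∑ φ : IrrCharacter G, (b φ : ℂ) • ((φ : G → ℂ) ∘ f) := by
      funext h
      rw [Function.comp_apply, combC_apply, ← comb_apply, ← hb]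
    rw [e1, e2, classInner_sum_left]
    push_cast
    refine Finset.sum_congr rfl fun φ _ => ?_
    rw [classInner_smul_left, classInner_sum_right, Finset.mul_sum]
    refine Finset.sum_congr rfl fun ψ _ => ?_
    rw [classInner_smul_right, hn1, Complex.conj_natCast]
  refine ⟨_, _, h1, h2, Finset.sum_le_sum fun φ _ => ?_⟩
  refine le_trans ?_ (Finset.single_le_sum (f := fun ψ => a φ * (b ψ * n φ ψ)) (fun _ _ => Nat.zero_le _)
    (Finset.mem_univ φ))
  exact Nat.mul_le_mul_left _ (Nat.le_mul_of_pos_right _ (hn2 φ φ rfl))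

/-- **Extension by norms.** -/
theorem exists_ext_of_norm {Θ : G → ℂ} (hΘ : IsCharacter G Θ)
    (hn : classInner (Θ ∘ f) (Θ ∘ f) = classInner Θ Θ) {χ : H → ℂ} (hχ : IsIrrCharacter H χ)
    (hne : classInner (Θ ∘ f) χ ≠ 0) : ∃ Ψ : G → ℂ, IsIrrCharacter G Ψ ∧ Ψ ∘ f = χ ∧ classInner Θ Ψ ≠ 0 := by
  classical
  have : Finite (IrrCharacter G) := finite_irr
  let _ : Fintype (IrrCharacter G) := Fintype.ofFinite _
  obtain ⟨a, ha⟩ := exists_nat_comb hΘ
  have e1 : Θ ∘ f = ∑ φ : IrrCharacter G, (a φ : ℂ) • ((φ : G → ℂ) ∘ f) := by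
    funext h
    rw [Function.comp_apply, combC_apply, ← comb_apply, ← ha]
  obtain ⟨Ψ, hΨ1, hΨ2⟩ : ∃ Ψ : IrrCharacter G, a Ψ ≠ 0 ∧ classInner ((Ψ : G → ℂ) ∘ f) χ ≠ 0 := by
    by_contra hcon
    push Not at hcon
    apply hne
    rw [e1, classInner_sum_left]
    refine Finset.sum_eq_zero fun φ _ => ?_
    rw [classInner_smul_left]
    by_cases h0 : a φ = 0
    · rw [h0]; simp
    · rw [hcon φ h0, mul_zero]
  have hΨ3 : classInner Θ (Ψ : G → ℂ) ≠ 0 := by
    rw [ha, classInner_sum_nsmul_irr]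
    exact_mod_cast hΨ1
  -- split off
  have hΨc := isIrr_isCharacter Ψ.2
  have hΘ' := Cfsg.Agent.OddOrderCharacters.Clifford.isCharacter_sub_irr hΘ Ψ.2 hΨ3
  obtain ⟨Θ', hΘ'e⟩ : ∃ Θ' : G → ℂ, Θ' = Θ - (Ψ : G → ℂ) := ⟨_, rfl⟩
  rw [← hΘ'e] at hΘ'
  have hsum : Θ = (Ψ : G → ℂ) + Θ' := by rw [hΘ'e]; abel
  have hsumf : Θ ∘ f = ((Ψ : G → ℂ) ∘ f) + (Θ' ∘ f) := by rw [hsum]; rfl
  obtain ⟨a1, b1, h1, h1', h1''⟩ := inner_mono f hΨc hΨc
  obtain ⟨a2, b2, h2, h2', h2''⟩ := inner_mono f hΨc hΘ'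
  obtain ⟨a3, b3, h3, h3', h3''⟩ := inner_mono f hΘ' hΨc
  obtain ⟨a4, b4, h4, h4', h4''⟩ := inner_mono f hΘ' hΘ'
  have ha1 : a1 = 1 := by
    rw [classInner_irr_self Ψ.2] at h1
    exact_mod_cast h1.symm
  rw [hsumf] at hn
  have hn' : classInner (((Ψ : G → ℂ) ∘ f) + (Θ' ∘ f)) (((Ψ : G → ℂ) ∘ f) + (Θ' ∘ f)) =
      classInner ((Ψ : G → ℂ) + Θ') ((Ψ : G → ℂ) + Θ') := by rw [hn, ← hsum]
  simp only [classInner_add_left, classInner_add_right, h1, h1', h2, h2', h3, h3', h4, h4'] at hn'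
  have hn2 : b1 + b3 + (b2 + b4) = a1 + a3 + (a2 + a4) := by exact_mod_cast hn'
  have hb1 : b1 = 1 := by omega
  have hirr : IsIrrCharacter H ((Ψ : G → ℂ) ∘ f) := by
    rw [isIrr_iff_classInner_self (isCharacter_comp f hΨc), h1', hb1]
    simp
  refine ⟨Ψ, Ψ.2, ?_, hΨ3⟩
  by_contra hne2
  exact hΨ2 (classInner_irr_ne hirr hχ hne2)

end

/-- A character of degree prime to `p` has a constituent of degree prime to `p`. -/
theorem exists_irr_constituent {G : Type u} [Group G] [Fintype G] {p : ℕ} {Θ : G → ℂ} (hΘ : IsCharacter G Θ) {d : ℕ}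
    (hd : Θ 1 = d) (hpd : ¬ p ∣ d) :
    ∃ χ : G → ℂ, IsIrrCharacter G χ ∧ classInner Θ χ ≠ 0 ∧ ∃ c : ℕ, χ 1 = c ∧ ¬ p ∣ c ∧ c ≤ d := by
  classical
  have : Finite (IrrCharacter G) := finite_irr
  let _ : Fintype (IrrCharacter G) := Fintype.ofFinite _
  obtain ⟨a, ha⟩ := exists_nat_comb hΘ
  have hdeg : ∀ χ : IrrCharacter G, ∃ c : ℕ, (χ : G → ℂ) 1 = c := fun χ => by
    obtain ⟨c, -, hc⟩ := isIrr_apply_one χ.2
    exact ⟨c, hc⟩
  choose c hc using hdeg
  have h1 : d = ∑ χ : IrrCharacter G, a χ * c χ := by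
    have h2 : (d : ℂ) = ((∑ χ : IrrCharacter G, a χ * c χ : ℕ) : ℂ) := by
      rw [← hd, ha, comb_apply]
      push_cast
      exact Finset.sum_congr rfl fun χ _ => by rw [hc]
    exact_mod_cast h2
  obtain ⟨χ, hχ⟩ : ∃ χ : IrrCharacter G, ¬ p ∣ a χ * c χ := by
    by_contra hcon
    push Not at hcon
    apply hpd
    rw [h1]
    exact Finset.dvd_sum fun χ _ => hcon χ
  refine ⟨χ, χ.2, ?_, c χ, hc χ, fun h => hχ (h.mul_left _), ?_⟩
  · rw [ha, classInner_sum_nsmul_irr]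
    have : a χ ≠ 0 := by
      intro h0
      apply hχ
      rw [h0, zero_mul]
      exact dvd_zero p
    exact_mod_cast this
  · rw [h1]
    have h2 : 0 < a χ := by
      rcases Nat.eq_zero_or_pos (a χ) with h0 | h0
      · exact absurd (by rw [h0, zero_mul]; exact dvd_zero p) hχ
      · exact h0
    exact le_trans (Nat.le_mul_of_pos_left _ h2) (Finset.single_le_sum (f := fun χ => a χ * c χ)
      (fun _ _ => Nat.zero_le _) (Finset.mem_univ χ))

end Cfsg.Agent.H687
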