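import Cfsg.Agent.H687.He8330
import Cfsg.Agent.H997.OutHe2
import Cfsg.Agent.KFacts.He.Outer
import Cfsg.Agent.H34.SporHyp

/-!
# S4834: the Held group, `p = 5` and `p = 7` (helper687)

The permutation character of degree 8330 is `1 + 51 + 51' + 680 + 1275 + 1920 + 4352`, and it is invariant under all
automorphisms.
-/

set_option autoImplicit false

namespace Cfsg.Agent.H687.HeRow

open Cfsg Cfsg.Spor Cfsg.Spor.He Cfsg.Agent.Lib.PermNet Cfsg.Agent.Lib.PermNetOrbit Cfsg.Agent.H687.HeNetData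
  Cfsg.Agent.H687.He8330 Cfsg.Agent.H997.OutHe Cfsg.Agent.FixBN.HeStab
open Cfsg.Agent.SporRec.CosetBulk (rangeCheck lt_iff_of_rangeCheck)

universe u

theorem okT : net_t.ok (2 ^ 14) = true := by decide +kernel

theorem rangeT : rangeCheck net_t 8330 = true := by decide +kernel

theorem chk_T (x : Gen) : checkEq 14 [net_t, net x] [net (sw x), net_t] = true := by cases x <;> decide +kernel

theorem comm_T (x : Gen) : net_t.perm * pm x = pm (sw x) * net_t.perm := by
  have h := wperm_eq_of_checkEq (WOk.cons okT (WOk.cons (ok x) (WOk.nil _))) (WOk.cons (ok (sw x))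
    (WOk.cons okT (WOk.nil _))) (chk_T x)
  rw [wperm_cons, wperm_cons, wperm_nil, mul_one, wperm_cons, wperm_cons, wperm_nil, mul_one] at h
  exact h

theorem phi_rho (g : Cfsg.Spor.He) : net_t.perm * phi g = phi (rho g) * net_t.perm := by
  have h := of_mem_closure g
  induction h using Subgroup.closure_induction with
  | mem x hx =>
    obtain ⟨x, rfl⟩ := hx
    have h1 : rho (PresentedGroup.of x) = PresentedGroup.of (sw x) := rho_gn x
    rw [h1, phi_of, phi_of, comm_T]
  | one => rw [map_one, map_one, map_one, mul_one, one_mul]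
  | mul x y _ _ hx hy => rw [map_mul, map_mul, ← mul_assoc, hx, mul_assoc, hy, ← mul_assoc, map_mul]
  | inv x _ hx =>
    rw [map_inv, map_inv, map_inv, eq_inv_mul_iff_mul_eq, ← mul_assoc, ← hx, mul_inv_cancel_right]

/-- Fixed points of conjugate permutations. -/
theorem card_fix_eq {n : ℕ} {t f f' : Equiv.Perm ℕ} (ht : ∀ i, t i < n ↔ i < n) (h : t * f = f' * t) :
    Nat.card {i : Fin n // f i = i} = Nat.card {i : Fin n // f' i = i} := by
  have hti : ∀ i, t (t⁻¹ i) = i := fun i => by simp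
  have hit : ∀ i, t⁻¹ (t i) = i := fun i => by simp
  let e : Fin n ≃ Fin n :=
    { toFun := fun i => ⟨t i, (ht i).2 i.2⟩
      invFun := fun i => ⟨t⁻¹ i, (ht _).1 (by rw [hti]; exact i.2)⟩
      left_inv := fun i => Fin.ext (hit i)
      right_inv := fun i => Fin.ext (hti i) }
  refine Nat.card_congr (Equiv.subtypeEquiv e fun i => ?_)
  have h1 : t (f i) = f' (t i) := congrArg (fun g : Equiv.Perm ℕ => g i) h
  show f i = i ↔ f' (t i) = t i
  rw [← h1, t.injective.eq_iff]

/-- the permutation character -/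
noncomputable def pi (g : Cfsg.Spor.He) : ℕ := Nat.card {i : Fin 8330 // phi g i = i}

theorem pi_rho (g : Cfsg.Spor.He) : pi (rho g) = pi g :=
  (card_fix_eq (lt_iff_of_rangeCheck okT rangeT) (phi_rho g)).symm

theorem pi_conj (k g : Cfsg.Spor.He) : pi (k * g * k⁻¹) = pi g :=
  (card_fix_eq (phi_lt_iff k) (by rw [← map_mul, ← map_mul, inv_mul_cancel_right])).symm

theorem pi_aut (σ : MulAut Cfsg.Spor.He) (g : Cfsg.Spor.He) : pi (σ g) = pi g := by
  have hconj : ∀ (τ : MulAut Cfsg.Spor.He), τ ∈ (MulAut.conj : Cfsg.Spor.He →* MulAut Cfsg.Spor.He).range →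
      ∀ g, pi (τ g) = pi g := by
    rintro _ ⟨k, rfl⟩ g
    rw [MulAut.conj_apply, pi_conj]
  rcases KFacts.He.Outer.index_le_two (K := Cfsg.Spor.He) ⟨MulEquiv.refl _⟩ with h | h
  · rw [Subgroup.index_eq_one] at h
    exact hconj σ (by rw [h]; exact Subgroup.mem_top σ) g
  · by_cases hσ : σ ∈ (MulAut.conj : Cfsg.Spor.He →* MulAut Cfsg.Spor.He).range
    · exact hconj σ hσ g
    · have hr : rho ∉ (MulAut.conj : Cfsg.Spor.He →* MulAut Cfsg.Spor.He).range := by
        rintro ⟨k, hk⟩
        exact rho_outer k hk.symm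
      have h1 : σ * rho ∈ (MulAut.conj : Cfsg.Spor.He →* MulAut Cfsg.Spor.He).range := by
        rw [Subgroup.mul_mem_iff_of_index_two h]
        exact ⟨fun h => absurd h hσ, fun h => absurd h hr⟩
      have h2 := hconj _ h1 (rho g)
      rw [MulAut.mul_apply] at h2
      have h3 : rho (rho g) = g := DFunLike.congr_fun rho_sq g
      rw [h3, pi_rho] at h2
      exact h2

/-- The invariant constituents and one more. -/
theorem exists_deg : ∃ χ : Fin 7 → Cfsg.IrrCharacter Cfsg.Spor.He,
    (∀ s, Cfsg.charDegree (χ s : Cfsg.Spor.He → ℂ) = dg s) ∧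
      ∀ s : Fin 7, (s : ℕ) < 4 → H635.Spor.AutInv (χ s : Cfsg.Spor.He → ℂ) := by
  obtain ⟨χ, h1, -, h3, h4⟩ := exists_chars
  refine ⟨fun s => ⟨χ s, h1 s⟩, fun s => H687.charDegree_of_eq (h3 s), fun s hs σ g => ?_⟩
  refine Scheme.inv_of_unique h1 (σ := σ) (fun g => ?_) (s := s) (fun t hts => ?_) g
  · rw [Finset.sum_apply, Finset.sum_apply, h4, h4]
    exact_mod_cast pi_aut σ g
  · rw [h3, h3]
    have : dg t ≠ dg s := by
      revert hs hts
      revert s t
      decide
    exact_mod_cast this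

theorem good_five_he : H687.Good 5 Cfsg.Spor.He := by
  have hS : H635.Spor.Hyp Cfsg.Spor.He := by
    have : IsSimpleGroup Cfsg.Spor.He := KFacts.He.Cent.simpleHe
    refine H34.SporHyp.hyp_spor ?_
    have : IsoHe Cfsg.Spor.He := ⟨MulEquiv.refl _⟩
    unfold IsSporadicGroup
    tauto
  obtain ⟨χ, h1, h2⟩ := exists_deg
  refine H635.Spor.good_of_pair hS.center_eq_bot hS.out (by norm_num) (by norm_num) (α := χ 1) (β := χ 5) ?_ ?_ ?_ ?_
    (h2 1 (by decide)) ?_ <;> simp only [h1] <;> decide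

theorem good_seven_he : H687.Good 7 Cfsg.Spor.He := by
  have hS : H635.Spor.Hyp Cfsg.Spor.He := by
    have : IsSimpleGroup Cfsg.Spor.He := KFacts.He.Cent.simpleHe
    refine H34.SporHyp.hyp_spor ?_
    have : IsoHe Cfsg.Spor.He := ⟨MulEquiv.refl _⟩
    unfold IsSporadicGroup
    tauto
  obtain ⟨χ, h1, h2⟩ := exists_deg
  refine H635.Spor.good_of_pair hS.center_eq_bot hS.out (by norm_num) (by norm_num) (α := χ 3) (β := χ 2) ?_ ?_ ?_ ?_
    (h2 3 (by decide)) ?_ <;> simp only [h1] <;> decide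

/-- **The Held group, `p = 5`.** -/
theorem good_He_five {S : Type u} [Group S] (h : IsoHe S) : H687.Good 5 S := by
  obtain ⟨e⟩ := h
  exact H687.Good.of_equiv e good_five_he

/-- **The Held group, `p = 7`.** -/
theorem good_He_seven {S : Type u} [Group S] (h : IsoHe S) : H687.Good 7 S := by
  obtain ⟨e⟩ := h
  exact H687.Good.of_equiv e good_seven_he

end Cfsg.Agent.H687.HeRow
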