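import Cfsg.Agent.H687.NetScheme
import Cfsg.Agent.H687.HeNetData
import Cfsg.Agent.Lib.PermNetOrbit
import Cfsg.Agent.SporRec.CosetBulk
import Cfsg.Agent.SporadicB.HePerm.Rep
import Cfsg.Agent.KFacts.He.Cent

/-!
# The permutation representation of degree 8330 of the Held group (helper687)

* `phi` : the representation; `HH` : the stabilizer of `0`, with orbits `1, 105, 720, 840, 840, 1344, 4480`;
* `exists_chars` : the permutation character is the sum of irreducible characters of degrees
  `1920, 4352, 1275, 680, 1, 51, 51`.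
-/

set_option autoImplicit false

namespace Cfsg.Agent.H687.He8330

open Cfsg.Spor Cfsg.Spor.He Cfsg.Agent.Lib.PermNet Cfsg.Agent.Lib.PermNetOrbit Cfsg.Agent.H687.HeNetData
open Cfsg.Agent.SporRec.CosetBulk (rangeCheck lt_iff_of_rangeCheck)
open Cfsg.Agent.SporadicB.HePerm (wd)

/-- the network of a generator -/
noncomputable def net : Gen → Net
  | .a => net_a | .b => net_b | .c => net_c | .d => net_d | .e => net_e | .f => net_f | .g => net_g

theorem ok (x : Gen) : (net x).ok (2 ^ 14) = true := by cases x <;> decide +kernel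

/-- the permutation of a generator -/
noncomputable def pm (x : Gen) : Equiv.Perm ℕ := (net x).perm

theorem wok (w : List Gen) : WOk (2 ^ 14) (w.map net) := by
  intro L hL
  obtain ⟨x, -, rfl⟩ := List.mem_map.1 hL
  exact ok x

theorem wperm_map (w : List Gen) : wperm (w.map net) = (w.map pm).prod := by
  rw [wperm, List.map_map]; rfl

theorem chk_pair (x y : Gen) : checkEq 14 (wpow ([x, y].map net) (coxLabel edges x y)) [] = true := by
  cases x <;> cases y <;> decide +kernel

theorem pair (x y : Gen) : (pm x * pm y) ^ coxLabel edges x y = 1 := by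
  have h := wperm_eq_one_of_checkEq (Cfsg.Agent.Lib.PermNetOrbit.WOk.wpow (wok [x, y]) _) (chk_pair x y)
  rw [wperm_wpow, wperm_map] at h
  simpa using h

/-- the words of the further relators -/
def ew : ℕ → List Gen × List Gen
  | 0 => ([.e], [.f, .g, .f, .g])
  | 1 => ([.e], [.a, .b, .c, .a, .b, .c, .a, .b, .c])
  | 2 => ([.a], [.c, .d, .c, .d, .c, .d, .c, .d, .c, .d])
  | _ => ([], [.c, .d, .f, .g, .c, .d, .f, .g, .c, .d, .f, .g, .c, .d, .f, .g])

theorem chk_extra (i : ℕ) (hi : i < 4) : checkEq 14 ((ew i).1.map net) ((ew i).2.map net) = true := by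
  interval_cases i <;> decide +kernel

theorem extra_eq (i : ℕ) (hi : i < 4) : ((ew i).1.map pm).prod = ((ew i).2.map pm).prod := by
  have h := wperm_eq_of_checkEq (wok _) (wok _) (chk_extra i hi)
  rwa [wperm_map, wperm_map] at h

theorem lift_eq_one : ∀ r ∈ coxRelators edges ∪ {r | r ∈ extra}, FreeGroup.lift pm r = 1 := by
  refine cox_lift_eq_one pm edges extra (fun x _ y _ => pair x y) ?_
  intro r hr
  simp only [extra, List.mem_cons, List.not_mem_nil, or_false] at hr
  have h0 := extra_eq 0 (by norm_num)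
  have h1 := extra_eq 1 (by norm_num)
  have h2 := extra_eq 2 (by norm_num)
  have h3 := extra_eq 3 (by norm_num)
  simp only [ew, List.map_cons, List.map_nil, List.prod_cons, List.prod_nil, mul_one] at h0 h1 h2 h3
  rcases hr with rfl | rfl | rfl | rfl
  · simp only [map_mul, map_inv, map_pow, FreeGroup.lift_apply_of]
    rw [h0, mul_inv_eq_one]
    simp only [pow_succ, pow_zero, one_mul, mul_assoc]
  · simp only [map_mul, map_inv, map_pow, FreeGroup.lift_apply_of]
    rw [h1, mul_inv_eq_one]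
    simp only [pow_succ, pow_zero, one_mul, mul_assoc]
  · simp only [map_mul, map_inv, map_pow, FreeGroup.lift_apply_of]
    rw [h2, mul_inv_eq_one]
    simp only [pow_succ, pow_zero, one_mul, mul_assoc]
  · simp only [map_mul, FreeGroup.lift_apply_of, pow_succ, pow_zero, one_mul, mul_assoc]
    exact h3.symm

/-- **the representation** -/
noncomputable def phi : Cfsg.Spor.He →* Equiv.Perm ℕ := PresentedGroup.toGroup lift_eq_one

theorem phi_of (x : Gen) : phi (PresentedGroup.of x) = pm x := PresentedGroup.toGroup.of lift_eq_one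

theorem phi_wd (w : List Gen) : phi (wd w) = wperm (w.map net) := by
  rw [wperm_map, wd, map_list_prod, List.map_map]
  rfl

theorem chk_range (x : Gen) : rangeCheck (net x) 8330 = true := by cases x <;> decide +kernel

theorem pm_lt_iff (x : Gen) (i : ℕ) : pm x i < 8330 ↔ i < 8330 := lt_iff_of_rangeCheck (ok x) (chk_range x) i

theorem of_mem_closure (g : Cfsg.Spor.He) : g ∈ Subgroup.closure (Set.range (PresentedGroup.of (rels := coxRelators edges ∪ {r | r ∈ extra}))) := by
  rw [PresentedGroup.closure_range_of]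
  exact Subgroup.mem_top g

theorem phi_lt_iff (g : Cfsg.Spor.He) (i : ℕ) : phi g i < 8330 ↔ i < 8330 := by
  have h := of_mem_closure g
  revert i
  induction h using Subgroup.closure_induction with
  | mem x hx =>
    intro i
    obtain ⟨x, rfl⟩ := hx
    rw [phi_of]
    exact pm_lt_iff x i
  | one => intro i; rw [map_one]; rfl
  | mul x y _ _ hx hy =>
    intro i
    rw [map_mul, Equiv.Perm.mul_apply]
    exact (hx _).trans (hy _)
  | inv x _ hx =>
    intro i
    rw [map_inv]
    have h1 := hx ((phi x)⁻¹ i)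
    have h2 : phi x ((phi x)⁻¹ i) = i := by simp
    rw [h2] at h1
    exact h1.symm

/-! ### Transitivity -/

/-- the words of the generators -/
def wordsG : List (List Gen) := [[.a], [.b], [.c], [.d], [.e], [.f], [.g]]

/-- the words generating the stabilizer of `0` -/
def wordsK : List (List Gen) := [[.a], [.c], [.d], [.e], [.f], [.g], [.b, .a, .b],
  [.b, .c, .d, .e, .f, .d, .c, .b, .d, .c, .d, .c, .e, .d, .b, .c, .d, .f, .e, .d, .c, .b]]

/-- words of elements fixing `0` and `111` -/
def wordsM : List (List Gen) := [[.b, .a, .b], [.d, .f, .c, .d, .c, .d, .c, .f, .d],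
  [.b, .c, .d, .e, .f, .d, .c, .b, .d, .c, .d, .c, .e, .d, .b, .c, .d, .f, .e, .d, .c, .b, .f, .d, .c, .g, .d, .c, .f]]

/-- words of networks -/
noncomputable def nt (ws : List (List Gen)) : List (List Net) := ws.map fun w => w.map net

theorem nt_ok (ws : List (List Gen)) : WsOk (2 ^ 14) (nt ws) := by
  intro w hw
  obtain ⟨v, -, rfl⟩ := List.mem_map.1 hw
  exact wok v

theorem satG : Nat.beq (sat (nt wordsG) 6 (2 ^ 0)) (2 ^ 8330 - 1) = true := by decide +kernel

theorem trans (i : ℕ) (hi : i < 8330) : ∃ g, phi g 0 = i := by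
  have h1 : (sat (nt wordsG) 6 (2 ^ 0)).testBit i = true := by
    rw [Nat.eq_of_beq_eq_true satG, Nat.testBit_two_pow_sub_one]
    simpa using hi
  obtain ⟨_, ⟨g, rfl⟩, hg⟩ := sat_point_spec (K := phi.range) (nt_ok wordsG) (fun w hw => by
    obtain ⟨v, -, rfl⟩ := List.mem_map.1 hw
    exact ⟨wd v, phi_wd v⟩) 6 h1
  exact ⟨g, hg⟩

/-! ### The stabilizer -/

/-- **the stabilizer of `0`** -/
def HH : Subgroup Cfsg.Spor.He := Subgroup.closure {g | ∃ w ∈ wordsK, wd w = g}

theorem wd_mem {w : List Gen} (hw : w ∈ wordsK) : wd w ∈ HH := Subgroup.subset_closure ⟨w, hw, rfl⟩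

theorem wd_append (v w : List Gen) : wd (v ++ w) = wd v * wd w := by
  simp [wd]

theorem fixK : fixB (nt wordsK) 0 = true := by decide +kernel

theorem HH_fix {g : Cfsg.Spor.He} (hg : g ∈ HH) : phi g 0 = 0 := by
  induction hg using Subgroup.closure_induction with
  | mem x hx =>
    obtain ⟨w, hw, rfl⟩ := hx
    rw [phi_wd]
    exact fixB_spec (nt_ok wordsK) fixK _ (List.mem_map.2 ⟨w, hw, rfl⟩)
  | one => rw [map_one]; rfl
  | mul x y _ _ hx hy => rw [map_mul, Equiv.Perm.mul_apply, hy, hx]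
  | inv x _ hx => rw [map_inv, Equiv.Perm.inv_eq_iff_eq, hx]

/-- a letter of the stabilizer -/
def lt6 : Gen → Bool
  | .b => false
  | _ => true

theorem letter_mem {x : Gen} (h : lt6 x = true) : wd [x] ∈ HH := by
  apply wd_mem
  revert h
  cases x <;> decide

theorem letters_mem {w : List Gen} (h : w.all lt6 = true) : wd w ∈ HH := by
  induction w with
  | nil => exact HH.one_mem
  | cons x w ih =>
    rw [List.all_cons, Bool.and_eq_true] at h
    have := wd_append [x] w
    rw [List.singleton_append] at this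
    rw [this]
    exact HH.mul_mem (letter_mem h.1) (ih h.2)

theorem wordsM_mem {w : List Gen} (hw : w ∈ wordsM) : wd w ∈ HH := by
  simp only [wordsM, List.mem_cons, List.not_mem_nil, or_false] at hw
  rcases hw with rfl | rfl | rfl
  · exact wd_mem (by decide)
  · exact letters_mem (by decide)
  · rw [show ([.b, .c, .d, .e, .f, .d, .c, .b, .d, .c, .d, .c, .e, .d, .b, .c, .d, .f, .e, .d, .c, .b, .f, .d, .c, .g,
        .d, .c, .f] : List Gen) = [.b, .c, .d, .e, .f, .d, .c, .b, .d, .c, .d, .c, .e, .d, .b, .c, .d, .f, .e, .d, .c,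
        .b] ++ [.f, .d, .c, .g, .d, .c, .f] from rfl, wd_append]
    exact HH.mul_mem (wd_mem (by decide)) (letters_mem (by decide))

instance instFiniteHe : Finite Cfsg.Spor.He := Nat.finite_of_card_ne_zero (by rw [KFacts.He.Cent.card_He]; norm_num)

/-- the representation of the stabilizer -/
noncomputable def phiH : HH →* Equiv.Perm ℕ := phi.comp HH.subtype

theorem step1 : 4480 * Nat.card (stabL phiH [111]) ≤ Nat.card (stabL phiH []) :=
  stabL_step_of_check phiH (k := 14) (ws := nt wordsK) [] 111 4480 3 (nt_ok _) (fun w hw => by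
    obtain ⟨v, hv, rfl⟩ := List.mem_map.1 hw
    exact ⟨⟨wd v, wd_mem hv⟩, phi_wd v⟩) (by decide +kernel) (by decide +kernel) (by decide +kernel)

theorem step2 : 108 * Nat.card (stabL phiH [9, 111]) ≤ Nat.card (stabL phiH [111]) :=
  stabL_step_of_check phiH (k := 14) (ws := nt wordsM) [111] 9 108 4 (nt_ok _) (fun w hw => by
    obtain ⟨v, hv, rfl⟩ := List.mem_map.1 hw
    exact ⟨⟨wd v, wordsM_mem hv⟩, phi_wd v⟩) (by decide +kernel) (by decide +kernel) (by decide +kernel)

theorem card_HH : 483840 ≤ Nat.card HH := by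
  have h1 := step1
  have h2 := step2
  have h3 : 0 < Nat.card (stabL phiH [9, 111]) := Nat.card_pos
  have h4 : Nat.card (stabL phiH []) ≤ Nat.card HH := Nat.card_le_card_of_injective _ (Subgroup.subtype_injective _)
  omega

theorem index_HH : HH.index = 8330 ∧ (∀ g, phi g 0 = 0 ↔ g ∈ HH) ∧ ∀ g, phi g 0 < 8330 := by
  refine index_eq_of_action HH phi 8330 (fun g hg => HH_fix hg) trans ?_ Subgroup.index_ne_zero_of_finite
  have h1 := HH.card_mul_index
  rw [KFacts.He.Cent.card_He] at h1
  by_contra hcon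
  have h2 := Nat.mul_le_mul card_HH (show 8331 ≤ HH.index by omega)
  omega

/-! ### The suborbits -/

/-- masks of the suborbits -/
noncomputable def U : ℕ → ℕ
  | 0 => u0 | 1 => u1 | 2 => u2 | 3 => u3 | 4 => u4 | 5 => u5 | _ => u6

/-- representatives -/
def yy : ℕ → ℕ
  | 0 => 0 | 1 => 117 | 2 => 1 | 3 => 123 | 4 => 128 | 5 => 8 | _ => 111

/-- words moving the representatives to `0` -/
def vw : ℕ → List Gen
  | 0 => []
  | 1 => [.b, .c, .d, .e, .f, .d, .c, .b]
  | 2 => [.b]
  | 3 => [.b, .c, .d, .f, .g, .d, .c, .b]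
  | 4 => [.b, .c, .d, .g, .f, .d, .c, .b]
  | 5 => [.b, .c, .d, .c, .b]
  | _ => [.b, .c, .d, .c, .f, .d, .c, .b]

/-- pairing -/
def prn : ℕ → ℕ
  | 3 => 4 | 4 => 3 | n => n

theorem satK (i : ℕ) (hi : i < 7) : Nat.beq (sat (nt wordsK) 3 (2 ^ yy i)) (U i) = true := by
  interval_cases i <;> decide +kernel

theorem closedK (i : ℕ) (hi : i < 7) : closedB (nt wordsK) (U i) = true := by
  interval_cases i <;> decide +kernel

theorem tbK (i : ℕ) (hi : i < 7) : tb (U i) (yy i) = true := by
  interval_cases i <;> decide +kernel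

theorem orb (i : ℕ) (hi : i < 7) (p : ℕ) : (U i).testBit p = true ↔ ∃ h ∈ HH, phi h (yy i) = p := by
  have h := orbit_closure_eq phi {g | ∃ w ∈ wordsK, wd w = g} (nt_ok wordsK) (by
    rintro g ⟨w, hw, rfl⟩
    exact ⟨w.map net, List.mem_map.2 ⟨w, hw, rfl⟩, (phi_wd w).symm⟩) (by
    intro w hw
    obtain ⟨v, hv, rfl⟩ := List.mem_map.1 hw
    exact ⟨wd v, ⟨v, hv, rfl⟩, (phi_wd v).symm⟩) (satK i hi) (closedK i hi) (tbK i hi)
  have h1 := Set.ext_iff.1 h p
  exact h1.symm

theorem shiftU (i : ℕ) (hi : i < 7) : Nat.beq (Nat.shiftRight (U i) 8330) 0 = true := by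
  interval_cases i <;> decide +kernel

theorem ltU (i : ℕ) (hi : i < 7) (p : ℕ) (h : (U i).testBit p = true) : p < 8330 := by
  by_contra hcon
  have h1 : U i >>> 8330 = 0 := Nat.eq_of_beq_eq_true (shiftU i hi)
  have h2 := congrArg (fun x => Nat.testBit x (p - 8330)) h1
  simp only [Nat.testBit_shiftRight, Nat.zero_testBit] at h2
  rw [show 8330 + (p - 8330) = p by omega, h] at h2
  exact absurd h2 (by simp)

theorem orU : Nat.beq (Nat.lor (U 0) (Nat.lor (U 1) (Nat.lor (U 2) (Nat.lor (U 3) (Nat.lor (U 4)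
    (Nat.lor (U 5) (U 6))))))) (2 ^ 8330 - 1) = true := by decide +kernel

theorem coverU (p : ℕ) (hp : p < 8330) : ∃ i : Fin 7, (U i).testBit p = true := by
  have h1 := congrArg (fun x => Nat.testBit x p) (Nat.eq_of_beq_eq_true orU)
  have h2 : ∀ a b : ℕ, (Nat.lor a b).testBit p = (a.testBit p || b.testBit p) := fun a b => Nat.testBit_or a b p
  simp only [h2, Nat.testBit_two_pow_sub_one, hp, decide_true, Bool.or_eq_true] at h1
  rcases h1 with h | h | h | h | h | h | h
  exacts [⟨0, h⟩, ⟨1, h⟩, ⟨2, h⟩, ⟨3, h⟩, ⟨4, h⟩, ⟨5, h⟩, ⟨6, h⟩]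

theorem chk_disj : ((List.range 7).all fun i => (List.range 7).all fun j => or (Nat.beq i j)
    (Nat.beq (Nat.land (U i) (U j)) 0)) = true := by decide +kernel

theorem disjU (i j : Fin 7) (p : ℕ) (hi : (U i).testBit p = true) (hj : (U j).testBit p = true) : i = j := by
  have h := chk_disj
  rw [List.all_eq_true] at h
  have h1 := h i (List.mem_range.2 i.2)
  rw [List.all_eq_true] at h1
  have h2 := h1 j (List.mem_range.2 j.2)
  rw [Bool.or_eq_true] at h2
  rcases h2 with h3 | h3
  · exact Fin.ext (Nat.eq_of_beq_eq_true h3)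
  · exfalso
    have h4 := congrArg (fun x => Nat.testBit x p) (Nat.eq_of_beq_eq_true h3)
    have h5 : (Nat.land (U i) (U j)).testBit p = ((U i).testBit p && (U j).testBit p) := Nat.testBit_and _ _ p
    simp only [h5, hi, hj, Nat.zero_testBit] at h4
    exact absurd h4 (by simp)

theorem masks : NetScheme.Masks phi HH 8330 (fun i : Fin 7 => U i) (fun i : Fin 7 => yy i) where
  pos := by norm_num
  bd g i hi := (phi_lt_iff g i).2 hi
  tr := trans
  lt i := ltU i i.2
  cover := coverU
  disj := disjU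
  orb i := orb i i.2
  stab := index_HH.2.1

/-! ### The intersection numbers -/

/-- intersection numbers -/
def pt (i j k : ℕ) : ℕ := Nat.land (Nat.shiftRight pT (Nat.mul 13 (Nat.add (Nat.mul 49 k) (Nat.add (Nat.mul 7 j) i)))) 8191

theorem chk_v : ((List.range 7).all fun k => and (Nat.beq (ptWord ((vw k).map net) (yy k)) 0)
    (tb (U (prn k)) (ptWord ((vw k).map net) 0))) = true := by decide +kernel

theorem v_spec (k : ℕ) (hk : k < 7) : phi (wd (vw k)) (yy k) = 0 ∧ (U (prn k)).testBit (phi (wd (vw k)) 0) = true := by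
  have h := chk_v
  rw [List.all_eq_true] at h
  have h1 := h k (List.mem_range.2 hk)
  rw [Bool.and_eq_true, ptWord_eq (wok _), ptWord_eq (wok _), tb_eq] at h1
  rw [phi_wd]
  exact ⟨Nat.eq_of_beq_eq_true h1.1, h1.2⟩

theorem chk_cnt : ((List.range 7).all fun k => (List.range 7).all fun j =>
    seqB (appWord ((vw k).map net) (U (prn j))) fun A => (List.range 7).all fun i =>
      Nat.beq (Lib.PermNetOrbit.pc 14 (Nat.land (U i) A)) (pt i j k)) = true := by decide +kernel

theorem cnt (i j k : Fin 7) : Nat.card {z : Fin 8330 // (U i).testBit z = true ∧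
    (U (prn j)).testBit (phi (wd (vw k)) z) = true} = pt i j k := by
  have h := chk_cnt
  rw [List.all_eq_true] at h
  have h1 := h k (List.mem_range.2 k.2)
  rw [List.all_eq_true] at h1
  have h2 := h1 j (List.mem_range.2 j.2)
  rw [seqB_eq, List.all_eq_true] at h2
  have h3 := h2 i (List.mem_range.2 i.2)
  obtain ⟨A, hA⟩ : ∃ A, A = appWord ((vw k).map net) (U (prn j)) := ⟨_, rfl⟩
  rw [← hA] at h3
  have hAt : ∀ z, A.testBit z = (U (prn j)).testBit (phi (wd (vw k)) z) := fun z => by
    rw [hA, testBit_appWord (wok _), phi_wd]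
  have hand : ∀ z, (Nat.land (U i) A).testBit z = ((U i).testBit z && A.testBit z) := fun z => Nat.testBit_and _ _ z
  have hlt : ∀ z, (Nat.land (U i) A).testBit z = true → z < 8330 := fun z hz => by
    rw [hand, Bool.and_eq_true] at hz
    exact ltU i i.2 z hz.1
  have hsh : Nat.beq (Nat.shiftRight (Nat.land (U i) A) (Nat.pow 2 14)) 0 = true := by
    have : Nat.land (U i) A >>> 2 ^ 14 = 0 := by
      apply Nat.eq_of_testBit_eq
      intro z
      rw [Nat.testBit_shiftRight, Nat.zero_testBit]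
      by_contra hcon
      have := hlt _ (by simpa using hcon)
      omega
    rw [show Nat.shiftRight (Nat.land (U i) A) (Nat.pow 2 14) = 0 from this]
    rfl
  have h4 := NetScheme.card_fin hlt (ncard_testBit hsh h3)
  rw [← h4]
  refine Nat.card_congr (Equiv.subtypeEquivRight fun z => ?_)
  rw [hand, Bool.and_eq_true, hAt]

/-! ### The idempotents -/

/-- coefficients of the idempotents, times 99960 -/
def el : ℕ → List (ℤ × ℤ)
  | 0 => [(23040, 0), (-3072, 0), (192, 0), (192, 0), (192, 0), (600, 0), (-216, 0)]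
  | 1 => [(52224, 0), (0, 0), (-1088, 0), (0, 0), (0, 0), (-816, 0), (408, 0)]
  | 2 => [(15300, 0), (1020, 0), (1020, 0), (-510, 0), (-510, 0), (0, 0), (0, 0)]
  | 3 => [(8160, 0), (1632, 0), (68, 0), (408, 0), (408, 0), (0, 0), (-204, 0)]
  | 4 => [(12, 0), (12, 0), (12, 0), (12, 0), (12, 0), (12, 0), (12, 0)]
  | 5 => [(612, 0), (204, 0), (-102, 0), (-51, -51), (-51, 51), (102, 0), (0, 0)]
  | _ => [(612, 0), (204, 0), (-102, 0), (-51, 51), (-51, -51), (102, 0), (0, 0)]

/-- the same in `ℤ√(-7)` -/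
def ec (s i : Fin 7) : ℤ√(-7) := ⟨((el s).getD i (0, 0)).1, ((el s).getD i (0, 0)).2⟩

/-- the degrees -/
def dg : Fin 7 → ℕ := ![1920, 4352, 1275, 680, 1, 51, 51]

theorem idem : ∀ s k : Fin 7, ∑ i : Fin 7, ∑ j : Fin 7, ec s i * ec s j * (pt i j k : ℤ√(-7)) =
    ((99960 : ℤ) : ℤ√(-7)) * ec s k := by decide +kernel

theorem sumE : ∀ k : Fin 7, ∑ s : Fin 7, ec s k = if k = 0 then ((99960 : ℤ) : ℤ√(-7)) else 0 := by decide +kernel

theorem degE : ∀ s : Fin 7, ((8330 : ℕ) : ℤ√(-7)) * ec s 0 = ((99960 : ℤ) : ℤ√(-7)) * (dg s : ℤ√(-7)) := by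
  decide +kernel

/-- **The constituents of the permutation character of degree 8330.** -/
theorem exists_chars : ∃ χ : Fin 7 → Cfsg.Spor.He → ℂ, (∀ s, Cfsg.IsIrrCharacter Cfsg.Spor.He (χ s)) ∧
    (∀ s t, s ≠ t → χ s ≠ χ t) ∧ (∀ s, χ s 1 = (dg s : ℂ)) ∧
      ∀ g, ∑ s, χ s g = (Nat.card {i : Fin 8330 // phi g i = i} : ℂ) := by
  obtain ⟨w, hw⟩ : ∃ w : ℂ, w * w = ((-7 : ℤ) : ℂ) := by
    obtain ⟨w, hw⟩ := IsAlgClosed.exists_pow_nat_eq ((-7 : ℤ) : ℂ) (n := 2) (by norm_num)
    exact ⟨w, by rw [← hw]; ring⟩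
  refine NetScheme.exists_chars masks (v := fun k => wd (vw k)) (fun k => (v_spec k k.2).1)
    (pr := ![0, 1, 2, 4, 3, 5, 6]) (fun k => ?_) (by decide) (p := fun i j k => pt i j k) (fun i j k => ?_) w hw
    (e := ec) (D := 99960) (by norm_num) idem (k₀ := 0) ?_ sumE (deg := dg) degE (by decide)
  · have h := (v_spec k k.2).2
    fin_cases k <;> exact h
  · rw [← cnt i j k]
    fin_cases j <;> rfl
  · exact (orb 0 (by norm_num) 0).2 ⟨1, HH.one_mem, by rw [map_one]; rfl⟩

end Cfsg.Agent.H687.He8330
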