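import Mathlib
import Cfsg.Agent.H687.Good

/-!
# S4834: canonical linear characters of the stabiliser of a one-parameter group (helper687)

`z : M → S` additive and injective, `M` a finite module over `ZMod p`.

* `Nrm z g`, `Sc z g c`, `Wit z n i j` ;
* `StA z` : the automorphisms of `S` mapping `{z a}` onto itself; `mperm`, `mlin` : the action on `M`;
* `sgn z`, `dlt z ψ` : the sign of the permutation, and `ψ` of the determinant over `ZMod p`.
-/

set_option autoImplicit false

namespace Cfsg.Agent.H687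

open Cfsg

universe u v

/-- `g` normalises the subgroup `{z a}`. -/
def Nrm {S : Type u} {F : Type v} [Group S] (z : F → S) (g : S) : Prop := ∀ a, ∃ b, g * z a * g⁻¹ = z b

/-- `g` acts on `{z a}` by the scalar `c`. -/
def Sc {S : Type u} {F : Type v} [Group S] [Field F] (z : F → S) (g : S) (c : F) : Prop :=
  ∀ a, g * z a * g⁻¹ = z (c * a)

/-- For every `d` there is `t` acting by `d ^ i` on `{z a}` and with `n⁻¹ t n` acting by `d ^ j` on `{z a}`
(i.e. `t` acts by `d ^ j` on the conjugate of `{z a}` by `n`). -/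
def Wit {S : Type u} {F : Type v} [Group S] [Field F] (z : F → S) (n : S) (i j : ℤ) : Prop :=
  ∀ d : Fˣ, ∃ t : S, Sc z t ((d ^ i : Fˣ) : F) ∧ Sc z (n⁻¹ * t * n) ((d ^ j : Fˣ) : F)

section

variable {S : Type u} {M : Type v} [Group S] (z : M → S)

/-- The automorphisms mapping `{z a}` onto itself. -/
def StA : Subgroup (MulAut S) where
  carrier := {φ | (∀ a, ∃ b, φ (z a) = z b) ∧ ∀ a, ∃ b, φ⁻¹ (z a) = z b}
  one_mem' := ⟨fun a => ⟨a, rfl⟩, fun a => ⟨a, by rw [inv_one]; rfl⟩⟩
  mul_mem' := by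
    rintro φ ψ ⟨h1, h2⟩ ⟨h3, h4⟩
    constructor
    · intro a
      obtain ⟨b, hb⟩ := h3 a
      obtain ⟨c, hc⟩ := h1 b
      exact ⟨c, by rw [MulAut.mul_apply, hb, hc]⟩
    · intro a
      obtain ⟨b, hb⟩ := h2 a
      obtain ⟨c, hc⟩ := h4 b
      exact ⟨c, by rw [mul_inv_rev, MulAut.mul_apply, hb, hc]⟩
  inv_mem' := by
    rintro φ ⟨h1, h2⟩
    exact ⟨h2, fun a => by rw [inv_inv]; exact h1 a⟩

theorem mem_StA {φ : MulAut S} : φ ∈ StA z ↔ (∀ a, ∃ b, φ (z a) = z b) ∧ ∀ a, ∃ b, φ⁻¹ (z a) = z b := Iff.rfl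

variable {z}

theorem mem_StA_iff [Finite M] (z_inj : Function.Injective z) {φ : MulAut S} :
    φ ∈ StA z ↔ ∀ a, ∃ b, φ (z a) = z b := by
  refine ⟨fun h => h.1, fun h => ⟨h, ?_⟩⟩
  choose f hf using h
  have hinj : Function.Injective f := by
    intro a b hab
    apply z_inj
    apply φ.injective
    rw [hf, hf, hab]
  intro a
  obtain ⟨b, rfl⟩ := (Finite.injective_iff_surjective.1 hinj) a
  exact ⟨b, by rw [← hf, MulAut.inv_apply_self]⟩

theorem conj_mem_StA_iff [Finite M] (z_inj : Function.Injective z) {g : S} : MulAut.conj g ∈ StA z ↔ Nrm z g := by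
  rw [mem_StA_iff z_inj]
  rfl

/-- The action on `M`. -/
noncomputable def mv (φ : StA z) (a : M) : M := (φ.2.1 a).choose

theorem mv_spec (φ : StA z) (a : M) : z (mv φ a) = (φ : MulAut S) (z a) := ((φ.2.1 a).choose_spec).symm

theorem mv_eq (z_inj : Function.Injective z) {φ : StA z} {a b : M} (h : (φ : MulAut S) (z a) = z b) : mv φ a = b :=
  z_inj ((mv_spec φ a).trans h)

/-- The permutation of `M`. -/
noncomputable def mperm (z_inj : Function.Injective z) : StA z →* Equiv.Perm M where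
  toFun φ :=
    { toFun := mv φ
      invFun := mv φ⁻¹
      left_inv := fun a => mv_eq z_inj (by rw [mv_spec (z := z)]; exact MulAut.inv_apply_self _ _ _)
      right_inv := fun a => mv_eq z_inj (by rw [mv_spec (z := z)]; exact MulAut.apply_inv_self _ _ _) }
  map_one' := Equiv.ext fun a => mv_eq z_inj rfl
  map_mul' φ ψ := Equiv.ext fun a => mv_eq z_inj (by
    show _ = z (mv φ (mv ψ a))
    rw [mv_spec (z := z), mv_spec (z := z)]; rfl)

theorem mperm_apply (z_inj : Function.Injective z) (φ : StA z) (a : M) : mperm z_inj φ a = mv φ a := rfl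

theorem mv_add [AddCommGroup M] (z_inj : Function.Injective z) (z_add : ∀ a b, z (a + b) = z a * z b) (φ : StA z)
    (a b : M) : mv φ (a + b) = mv φ a + mv φ b :=
  mv_eq z_inj (by rw [z_add, z_add, mv_spec (z := z), mv_spec (z := z), map_mul])

/-- The linear map of `M` over `ZMod p`. -/
noncomputable def mlin [AddCommGroup M] (p : ℕ) [Module (ZMod p) M] (z_inj : Function.Injective z)
    (z_add : ∀ a b, z (a + b) = z a * z b) : StA z →* (M →ₗ[ZMod p] M) where
  toFun φ := AddMonoidHom.toZModLinearMap p (AddMonoidHom.mk' (mv φ) (mv_add z_inj z_add φ))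
  map_one' := LinearMap.ext fun a => mv_eq z_inj rfl
  map_mul' φ ψ := LinearMap.ext fun a => mv_eq z_inj (by
    show _ = z (mv φ (mv ψ a))
    rw [mv_spec (z := z), mv_spec (z := z)]; rfl)

theorem mlin_apply [AddCommGroup M] (p : ℕ) [Module (ZMod p) M] (z_inj : Function.Injective z)
    (z_add : ∀ a b, z (a + b) = z a * z b) (φ : StA z) (a : M) : mlin p z_inj z_add φ a = mv φ a := rfl

open Classical in
/-- The sign of the permutation of `M`. -/
noncomputable def sgn [Fintype M] (z_inj : Function.Injective z) : StA z →* ℂˣ :=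
  (Units.map ((Int.castRingHom ℂ : ℤ →+* ℂ) : ℤ →* ℂ)).comp (Equiv.Perm.sign.comp (mperm z_inj))

/-- `ψ` of the determinant on `M` over `ZMod p`. -/
noncomputable def dlt [AddCommGroup M] (p : ℕ) [Module (ZMod p) M] (z_inj : Function.Injective z)
    (z_add : ∀ a b, z (a + b) = z a * z b) (ψ : (ZMod p)ˣ →* ℂˣ) : StA z →* ℂˣ :=
  ψ.comp ((LinearMap.det.comp (mlin p z_inj z_add)).toHomUnits)

theorem dlt_apply [AddCommGroup M] (p : ℕ) [Module (ZMod p) M] (z_inj : Function.Injective z)
    (z_add : ∀ a b, z (a + b) = z a * z b) (ψ : (ZMod p)ˣ →* ℂˣ) (φ : StA z) {d : (ZMod p)ˣ}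
    (hd : LinearMap.det (mlin p z_inj z_add φ) = (d : ZMod p)) : dlt p z_inj z_add ψ φ = ψ d := by
  show ψ _ = ψ d
  congr 1
  exact Units.ext hd

end

/-! ### evaluation on scalars -/

section Scalars

open Classical in
/-- The sign of the multiplication by a unit of a finite field of odd order: `-1` for non-squares. -/
theorem sign_mul_left {F : Type v} [Field F] [Fintype F] (h2 : ringChar F ≠ 2) (c : Fˣ) :
    Equiv.Perm.sign ((Units.mulLeft c : Equiv.Perm F)) = if IsSquare c then 1 else -1 := by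
  obtain ⟨g, hg⟩ := IsCyclic.exists_generator (α := Fˣ)
  have hcard : Even (Fintype.card F - 1) := by
    have h3 : Fintype.card F % 2 = 1 := FiniteField.odd_card_of_char_ne_two h2
    exact ⟨(Fintype.card F - 1) / 2, by omega⟩
  have hmul : ∀ a b : Fˣ, (Units.mulLeft (a * b) : Equiv.Perm F) = Units.mulLeft a * Units.mulLeft b := by
    intro a b
    ext x
    simp [mul_assoc]
  have hg1 : g ≠ 1 := by
    rintro rfl
    have h3 : ∀ x : Fˣ, x = 1 := fun x => by
      obtain ⟨k, hk⟩ := Subgroup.mem_zpowers_iff.1 (hg x)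
      rw [← hk, one_zpow]
    have h4 : (-1 : Fˣ) = 1 := h3 _
    have h5 : (-1 : F) = 1 := by simpa using congrArg Units.val h4
    exact Ring.neg_one_ne_one_of_char_ne_two h2 h5
  have hpow : ∀ k : ℤ, ((Units.mulLeft g : Equiv.Perm F) ^ k) 1 = ((g ^ k : Fˣ) : F) := by
    let m : Fˣ →* Equiv.Perm F := ⟨⟨fun a => Units.mulLeft a, by ext x; simp⟩, hmul⟩
    intro k
    have h3 : (Units.mulLeft g : Equiv.Perm F) ^ k = Units.mulLeft (g ^ k) := (map_zpow m g k).symm
    rw [h3]
    simp
  have hcyc : (Units.mulLeft g : Equiv.Perm F).IsCycle := by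
    refine ⟨1, ?_, ?_⟩
    · intro h3
      apply hg1
      apply Units.ext
      simpa using h3
    · intro y hy
      have hy0 : y ≠ 0 := by
        rintro rfl
        exact hy (by simp)
      obtain ⟨k, hk⟩ := Subgroup.mem_zpowers_iff.1 (hg (Units.mk0 y hy0))
      exact ⟨k, by rw [hpow, hk]; rfl⟩
  have hsupp : (Units.mulLeft g : Equiv.Perm F).support.card = Fintype.card F - 1 := by
    have h3 : (Units.mulLeft g : Equiv.Perm F).support = Finset.univ.erase 0 := by
      ext x
      rw [Equiv.Perm.mem_support, Finset.mem_erase]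
      constructor
      · intro h
        refine ⟨?_, Finset.mem_univ _⟩
        rintro rfl
        exact h (by simp)
      · rintro ⟨h, -⟩ h4
        apply hg1
        apply Units.ext
        have h5 : (g : F) * x = x := h4
        exact mul_right_cancel₀ h (by rw [h5, Units.val_one, one_mul])
    rw [h3, Finset.card_erase_of_mem (Finset.mem_univ _), Finset.card_univ]
  have hsg : Equiv.Perm.sign (Units.mulLeft g : Equiv.Perm F) = -1 := by
    rw [hcyc.sign, hsupp, hcard.neg_one_pow]
  let s : Fˣ →* ℤˣ := ⟨⟨fun a => Equiv.Perm.sign (Units.mulLeft a : Equiv.Perm F), by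
    have : (Units.mulLeft (1 : Fˣ) : Equiv.Perm F) = 1 := by ext x; simp
    show Equiv.Perm.sign (Units.mulLeft (1 : Fˣ) : Equiv.Perm F) = 1
    rw [this, Equiv.Perm.sign_one]⟩, fun a b => by
    show Equiv.Perm.sign (Units.mulLeft (a * b) : Equiv.Perm F) = _
    rw [hmul, Equiv.Perm.sign_mul]⟩
  change s c = _
  split_ifs with h
  · obtain ⟨d, rfl⟩ := h
    rw [map_mul]
    exact Int.units_mul_self _
  · obtain ⟨k, rfl⟩ := Subgroup.mem_zpowers_iff.1 (hg c)
    have hk : Odd k := by
      rw [← Int.not_even_iff_odd]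
      rintro ⟨m, rfl⟩
      exact h ⟨g ^ m, by rw [zpow_add]⟩
    rw [map_zpow]
    show (Equiv.Perm.sign (Units.mulLeft g : Equiv.Perm F)) ^ k = -1
    rw [hsg]
    exact hk.neg_one_zpow

variable {S : Type u} [Group S] {F : Type v} [Field F] [Fintype F] {z : F → S}

omit [Fintype F] in
theorem Sc.ne_zero (z_inj : Function.Injective z) {t : S} {c : F} (h : Sc z t c) : c ≠ 0 := by
  rintro rfl
  have h1 := h 1
  have h2 := h 0
  rw [zero_mul] at h1 h2
  have h3 : z 1 = z 0 := by
    have := h1.trans h2.symm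
    simpa using this
  exact one_ne_zero (z_inj h3)

omit [Fintype F] in
theorem Sc.nrm {t : S} {c : F} (h : Sc z t c) : Nrm z t := fun a => ⟨c * a, h a⟩

theorem Sc.mem (z_inj : Function.Injective z) {t : S} {c : F} (h : Sc z t c) : MulAut.conj t ∈ StA z :=
  (conj_mem_StA_iff z_inj).2 h.nrm

theorem Sc.mv_eq (z_inj : Function.Injective z) {t : S} {c : F} (h : Sc z t c) (a : F) :
    mv (z := z) ⟨MulAut.conj t, h.mem z_inj⟩ a = c * a := H687.mv_eq z_inj (h a)

open Classical in
theorem sgn_sc (h2 : ringChar F ≠ 2) (z_inj : Function.Injective z) {t : S} {c : Fˣ} (h : Sc z t (c : F)) :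
    ((sgn z_inj ⟨MulAut.conj t, h.mem z_inj⟩ : ℂˣ) : ℂ) = if IsSquare c then 1 else -1 := by
  have h3 : mperm z_inj ⟨MulAut.conj t, h.mem z_inj⟩ = Units.mulLeft c := by
    ext a
    exact h.mv_eq z_inj a
  have h4 : ((sgn z_inj ⟨MulAut.conj t, h.mem z_inj⟩ : ℂˣ) : ℂ) =
      ((Equiv.Perm.sign (mperm z_inj ⟨MulAut.conj t, h.mem z_inj⟩) : ℤˣ) : ℤ) := rfl
  rw [h4, h3, sign_mul_left h2]
  split_ifs <;> simp

/-- The norm to the prime field. -/
noncomputable def nm (p : ℕ) [Fact p.Prime] (F : Type v) [Field F] [CharP F p] : Fˣ →* (ZMod p)ˣ :=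
  letI := ZMod.algebra F p
  Units.map (Algebra.norm (ZMod p) : F →* ZMod p)

theorem dlt_sc (p : ℕ) [Fact p.Prime] [CharP F p] (z_inj : Function.Injective z)
    (z_add : ∀ a b, z (a + b) = z a * z b) (ψ : (ZMod p)ˣ →* ℂˣ) {t : S} {c : Fˣ} (h : Sc z t (c : F)) :
    letI := ZMod.algebra F p
    dlt p z_inj z_add ψ ⟨MulAut.conj t, h.mem z_inj⟩ = ψ (nm p F c) := by
  let _ := ZMod.algebra F p
  apply dlt_apply
  have h3 : mlin p z_inj z_add ⟨MulAut.conj t, h.mem z_inj⟩ = Algebra.lmul (ZMod p) F (c : F) := by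
    ext a
    exact h.mv_eq z_inj a
  rw [h3]
  rfl

end Scalars

end Cfsg.Agent.H687
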