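import Mathlib
import Cfsg.Agent.H687.StA
import Cfsg.Agent.H687.Ext
import Cfsg.Agent.H687.DCoset
import Cfsg.Agent.H687.Induce
import Cfsg.Agent.S0148

/-!
# S4834: the defining characteristic, families with linear characters (helper687)

`z : F → S` a one-parameter group of `S` (the centre of a Sylow `p`-subgroup), `P` its normaliser.

* `delta_char` : `Ind_P^S ψ(det)` is irreducible and extends to `MulAut S`;
* `theta_good` : the sign character of `P` induces a character with two constituents.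
-/

set_option autoImplicit false

namespace Cfsg.Agent.H687

open Cfsg Cfsg.Agent.Characters.Core Cfsg.Agent.OddOrderCharacters.Clifford

universe u v

/-- Linear characters of a simple nonabelian group are trivial. -/
theorem hom_eq_one {S : Type u} [Group S] [IsSimpleGroup S] (hna : ∃ a b : S, a * b ≠ b * a) (f : S →* ℂˣ) :
    f = 1 := by
  rcases (MonoidHom.normal_ker f).eq_bot_or_eq_top with h | h
  · exfalso
    obtain ⟨a, b, hab⟩ := hna
    apply hab
    have hinj : Function.Injective f := (MonoidHom.ker_eq_bot_iff f).1 h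
    apply hinj
    rw [map_mul, map_mul, mul_comm]
  · ext x
    have : x ∈ f.ker := by rw [h]; trivial
    rw [MonoidHom.mem_ker.1 this]
    rfl

theorem irr_eq_one {S : Type u} [Group S] [Finite S] [IsSimpleGroup S] (hna : ∃ a b : S, a * b ≠ b * a)
    {χ : S → ℂ} (hχ : IsIrrCharacter S χ) (h1 : χ 1 = 1) : χ = fun _ => 1 := by
  obtain ⟨f, rfl⟩ := Cfsg.Agent.Characters.Linear.exists_hom_of_isIrrCharacter hχ h1
  rw [hom_eq_one hna f]
  funext x
  simp

theorem eq_zero_of_one {G : Type u} [Group G] {χ : G → ℂ} (hχ : IsCharacter G χ) (h1 : χ 1 = 0) : χ = 0 := by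
  obtain ⟨n, ρ, rfl⟩ := hχ
  have h2 : n = 0 := by simpa using h1
  subst h2
  funext g
  show LinearMap.trace ℂ (Fin 0 → ℂ) (ρ g) = 0
  rw [Subsingleton.elim (ρ g) 0, map_zero]

/-- `Agree` only depends on the double coset. -/
theorem Agree.mul_mem {G : Type u} [Group G] {T : Subgroup G} {f : T →* ℂˣ} {x : G} (hx : Agree T f x) {a b : G}
    (ha : a ∈ T) (hb : b ∈ T) : Agree T f (a * x * b) := by
  intro t ht
  have e1 : x⁻¹ * (a⁻¹ * t * a) * x ∈ T := by
    have e2 : x⁻¹ * (a⁻¹ * t * a) * x = b * ((a * x * b)⁻¹ * t * (a * x * b)) * b⁻¹ := by group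
    rw [e2]
    exact T.mul_mem (T.mul_mem hb ht) (T.inv_mem hb)
  have e3 := hx (⟨a, ha⟩⁻¹ * t * ⟨a, ha⟩) e1
  have e4 : (⟨(a * x * b)⁻¹ * t * (a * x * b), ht⟩ : T) =
      (⟨b, hb⟩ : T)⁻¹ * ⟨x⁻¹ * (a⁻¹ * t * a) * x, e1⟩ * ⟨b, hb⟩ := Subtype.ext (by
    show (a * x * b)⁻¹ * t * (a * x * b) = b⁻¹ * (x⁻¹ * (a⁻¹ * t * a) * x) * b
    group)
  have e5 : (⟨x⁻¹ * (((⟨a, ha⟩ : T)⁻¹ * t * ⟨a, ha⟩ : T) : G) * x, e1⟩ : T) =
    ⟨x⁻¹ * (a⁻¹ * t * a) * x, e1⟩ := rfl
  rw [e4, map_mul, map_mul, map_inv, mul_comm, mul_inv_cancel_left, ← e5, ← e3, map_mul, map_mul, map_inv,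
    mul_comm, mul_inv_cancel_left]

theorem indFun_one {G : Type u} [Group G] [Fintype G] (H : Subgroup G) (θ : H → ℂ) :
    indFun H θ 1 = (H.index : ℂ) * θ 1 := by
  rw [Characters.Core.indFun_apply]
  have h : ∀ x : G, extendByZero H θ (x⁻¹ * 1 * x) = θ 1 := by
    intro x
    have e : x⁻¹ * 1 * x = ((1 : H) : G) := by simp
    rw [e, ext_apply_coe]
  rw [Finset.sum_congr rfl fun x _ => h x, Finset.sum_const, Finset.card_univ, ← Nat.card_eq_fintype_card,
    nsmul_eq_mul, ← H.card_mul_index]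
  have hH : (Nat.card H : ℂ) ≠ 0 := by exact_mod_cast Nat.card_pos.ne'
  push_cast
  field_simp

theorem exists_psi (p : ℕ) [hp : Fact p.Prime] : ∃ ψ : (ZMod p)ˣ →* ℂˣ, Function.Injective ψ := by
  have h0 : NeZero (p - 1) := ⟨by have := hp.1.two_le; omega⟩
  have h1 : Nat.card (ZMod p)ˣ = Nat.card (rootsOfUnity (p - 1) ℂ) := by
    rw [Nat.card_eq_fintype_card, ZMod.card_units, Complex.card_rootsOfUnity]
  exact ⟨(rootsOfUnity (p - 1) ℂ).subtype.comp (mulEquivOfCyclicCardEq h1).toMonoidHom,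
    (Subgroup.subtype_injective _).comp (mulEquivOfCyclicCardEq h1).injective⟩

section

variable {S : Type u} [Group S]

/-- The stabiliser in `S`. -/
abbrev NS {M : Type v} (z : M → S) : Subgroup S := (StA z).comap MulAut.conj

/-- Restriction of linear characters of `StA z` to `NS z`. -/
noncomputable abbrev rS {M : Type v} (z : M → S) (f : StA z →* ℂˣ) : NS z →* ℂˣ :=
  f.comp (MulAut.conj.subgroupComap (StA z))

theorem rS_apply {M : Type v} {z : M → S} (f : StA z →* ℂˣ) (t : S) (ht : t ∈ NS z) :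
    rS z f ⟨t, ht⟩ = f ⟨MulAut.conj t, ht⟩ := rfl

theorem ind_comp [Fintype S] [Fintype (MulAut S)] {M : Type v} {z : M → S} [Finite M]
    (z_inj : Function.Injective z) (hcan : ∀ φ : MulAut S, ∃ s : S, ∀ a, ∃ b, s * φ (z a) * s⁻¹ = z b)
    (f : StA z →* ℂˣ) (s : S) :
    indFun (StA z) (fun t => (f t : ℂ)) (MulAut.conj s) = indFun (NS z) (fun t => (rS z f t : ℂ)) s := by
  refine indFun_comp MulAut.conj (StA z) ?_ (fun t => (f t : ℂ)) ?_ s
  · intro φ
    obtain ⟨s, hs⟩ := hcan φ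
    refine ⟨s⁻¹, ?_⟩
    rw [map_inv, inv_inv, mem_StA_iff z_inj]
    exact hs
  · intro a b
    rw [map_mul, map_mul, map_inv, mul_comm, mul_inv_cancel_left]

theorem not_dvd_index [Finite S] {M : Type v} [Finite M] {z : M → S} (z_inj : Function.Injective z) {p : ℕ} [Fact p.Prime]
    (hidx : ∃ U : Sylow p S, ∀ u ∈ (U : Subgroup S), Nrm z u) : ¬ p ∣ (NS z).index := by
  obtain ⟨U, hU⟩ := hidx
  intro h
  have h1 : (U : Subgroup S) ≤ NS z := fun u hu => (conj_mem_StA_iff z_inj).2 (hU u hu)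
  exact U.not_dvd_index (h.trans (Subgroup.index_dvd_of_le h1))

end

/-! ### `Ind ψ(det)` -/

section Main

variable {p : ℕ} [hpF : Fact p.Prime] {S : Type u} [Group S] [Finite S] {F : Type v} [Field F] [Finite F] [CharP F p]
  {z : F → S} (z_add : ∀ a b, z (a + b) = z a * z b) (z_inj : Function.Injective z)

theorem exists_order (hp : 3 < p) : ∃ d : Fˣ, ∀ k : ℤ, nm p F d ^ k = 1 → (p : ℤ) - 1 ∣ k := by
  have : Fintype F := Fintype.ofFinite F
  let _ := ZMod.algebra F p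
  obtain ⟨g, hg⟩ := IsCyclic.exists_generator (α := (ZMod p)ˣ)
  have hs : Function.Surjective (nm p F) := FiniteField.unitsMap_norm_surjective (ZMod p) F
  obtain ⟨d, hd⟩ := hs g
  refine ⟨d, fun k hk => ?_⟩
  rw [hd] at hk
  have h1 : orderOf g = p - 1 := by
    rw [orderOf_eq_card_of_forall_mem_zpowers hg, Nat.card_eq_fintype_card, ZMod.card_units]
  have h2 := orderOf_dvd_iff_zpow_eq_one.2 hk
  rw [h1] at h2
  have h3 : ((p - 1 : ℕ) : ℤ) = (p : ℤ) - 1 := by
    rw [Nat.cast_sub (by omega), Nat.cast_one]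
  rwa [h3] at h2

omit [Finite S] [Field F] in
theorem Nrm.mem_NS (z_inj : Function.Injective z) {g : S} (h : Nrm z g) : g ∈ NS z := (conj_mem_StA_iff z_inj).2 h

omit [Finite S] in
/-- The character `ψ(det)` of the stabiliser of `{z a}`. -/
noncomputable def dF (p : ℕ) [Fact p.Prime] [CharP F p] (z_inj : Function.Injective z)
    (z_add : ∀ a b, z (a + b) = z a * z b) (ψ : (ZMod p)ˣ →* ℂˣ) : StA z →* ℂˣ :=
  letI := ZMod.algebra F p
  dlt p z_inj z_add ψ

omit [Finite S] [Finite F] in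
theorem dF_sc [Fintype F] (ψ : (ZMod p)ˣ →* ℂˣ) {t : S} {c : Fˣ} (h : Sc z t (c : F)) :
    dF p z_inj z_add ψ ⟨MulAut.conj t, h.mem z_inj⟩ = ψ (nm p F c) := dlt_sc p z_inj z_add ψ h

omit [Finite S] in
/-- An element of `N` outside `P` does not agree for `δ`. -/
theorem not_agree_dlt (hp : 3 < p) [Fintype F] {ψ : (ZMod p)ˣ →* ℂˣ} (hψ : Function.Injective ψ)
    (N : Set S) (hN : ∀ y : S, ∃ a b : S, Nrm z a ∧ Nrm z b ∧ a * y * b ∈ N)
    (h3 : ∀ n ∈ N, Nrm z n ∨ ∃ i j : ℤ, Wit z n i j ∧ ¬ ((p : ℤ) - 1 ∣ i - j)) {y : S}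
    (hy : y ∉ NS z) : ¬ Agree (NS z) (rS z (dF p z_inj z_add ψ)) y := by
  intro hag
  obtain ⟨a, b, ha, hb, hn⟩ := hN y
  have ha' := ha.mem_NS z_inj
  have hb' := hb.mem_NS z_inj
  rcases h3 _ hn with h | ⟨i, j, hw, hij⟩
  · apply hy
    have h4 := (NS z).mul_mem ((NS z).mul_mem ((NS z).inv_mem ha') (h.mem_NS z_inj)) ((NS z).inv_mem hb')
    have h5 : a⁻¹ * (a * y * b) * b⁻¹ = y := by group
    rwa [h5] at h4
  · have hag' := hag.mul_mem ha' hb'
    obtain ⟨d, hd⟩ := exists_order (p := p) (F := F) hp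
    obtain ⟨t, ht, ht'⟩ := hw d
    apply hij
    apply hd
    have h4 := hag' ⟨t, ht.mem z_inj⟩ (ht'.mem z_inj)
    have h5 : ψ (nm p F (d ^ i)) = ψ (nm p F (d ^ j)) := by
      rw [← dF_sc z_add z_inj ψ ht, ← dF_sc z_add z_inj ψ ht']
      exact h4
    have h6 := hψ h5
    rw [map_zpow, map_zpow] at h6
    rw [zpow_sub, h6, mul_inv_cancel]

include z_add z_inj in
/-- **The first character**: `Ind_P^S ψ(det)` is irreducible and extends to `MulAut S`. -/
theorem delta_char (hp : 3 < p) [Fintype S]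
    (hcan : ∀ φ : MulAut S, ∃ s : S, ∀ a, ∃ b, s * φ (z a) * s⁻¹ = z b)
    (N : Set S) (hN : ∀ y : S, ∃ a b : S, Nrm z a ∧ Nrm z b ∧ a * y * b ∈ N)
    (h3 : ∀ n ∈ N, Nrm z n ∨ ∃ i j : ℤ, Wit z n i j ∧ ¬ ((p : ℤ) - 1 ∣ i - j)) :
    ∃ β : S → ℂ, IsIrrCharacter S β ∧ β 1 = ((NS z).index : ℂ) ∧
      ∃ Ψ : MulAut S → ℂ, IsIrrCharacter (MulAut S) Ψ ∧ ∀ s, Ψ (MulAut.conj s) = β s := by
  classical
  have : Fintype F := Fintype.ofFinite F
  have : Fintype (MulAut S) := Fintype.ofFinite _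
  obtain ⟨ψ, hψ⟩ := exists_psi p
  have hirr : IsIrrCharacter S (indFun (NS z) fun t => (rS z (dF p z_inj z_add ψ) t : ℂ)) := by
    apply CharactersDeep.MackeyLinear.isIrrCharacter_indFun
    intro x hx
    have h1 := not_agree_dlt z_add z_inj hp hψ N hN h3 hx
    unfold Agree at h1
    push Not at h1
    exact h1
  refine ⟨_, hirr, ?_, ?_⟩
  · rw [indFun_one, map_one]
    simp
  · have hΘ : IsCharacter (MulAut S) (indFun (StA z) fun t => (dF p z_inj z_add ψ t : ℂ)) :=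
      S0148.result _ _ (Characters.Linear.isCharacter_hom _)
    have hcomp : (indFun (StA z) fun t => (dF p z_inj z_add ψ t : ℂ)) ∘ (MulAut.conj : S →* MulAut S) =
        indFun (NS z) fun t => (rS z (dF p z_inj z_add ψ) t : ℂ) := by
      funext s
      exact ind_comp z_inj hcan _ s
    obtain ⟨a, b, h1, h2, hab⟩ := inner_mono (MulAut.conj : S →* MulAut S) hΘ hΘ
    have h4 : classInner (indFun (NS z) fun t => (rS z (dF p z_inj z_add ψ) t : ℂ))
        (indFun (NS z) fun t => (rS z (dF p z_inj z_add ψ) t : ℂ)) = 1 := classInner_irr_self hirr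
    have hb : b = 1 := by
      rw [hcomp, h4] at h2
      exact_mod_cast h2.symm
    have ha : a ≠ 0 := by
      rintro rfl
      have h5 := classInner_self_eq_zero (by rw [h1]; simp : classInner (indFun (StA z) fun t =>
        (dF p z_inj z_add ψ t : ℂ)) (indFun (StA z) fun t => (dF p z_inj z_add ψ t : ℂ)) = 0)
      have h6 : indFun (NS z) (fun t => (rS z (dF p z_inj z_add ψ) t : ℂ)) = 0 := by
        rw [← hcomp, h5]; rfl
      exact isIrr_apply_one_ne_zero hirr (congrFun h6 1)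
    have ha1 : a = 1 := by omega
    obtain ⟨Ψ, hΨ, hΨc, -⟩ := exists_ext_of_norm (MulAut.conj : S →* MulAut S) hΘ
      (by rw [h1, h2, ha1, hb]) hirr (by rw [hcomp, h4]; exact one_ne_zero)
    exact ⟨Ψ, hΨ, fun s => congrFun hΨc s⟩

/-! ### the sign -/

omit [Finite S] [CharP F p] hpF in
include z_add in
/-- The signs on `{z a}` and on its conjugate by `x₀` agree. -/
theorem agree_sgn [Fintype F] (x₀ : S) (x1 : Nrm z (x₀ * x₀)) (x2 : ∀ a, Nrm z (x₀ * z a * x₀⁻¹) → a = 0)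
    (x3 : ∀ a, a ≠ 0 → ∃ b, Nrm z (x₀⁻¹ * z b * x₀ * z a * x₀⁻¹)) : Agree (StA z) (sgn z_inj) (MulAut.conj x₀) := by
  classical
  intro φ hφ
  set φ' : StA z := ⟨(MulAut.conj x₀)⁻¹ * φ * MulAut.conj x₀, hφ⟩ with hφ'
  have hz0 : z 0 = 1 := by
    have := z_add 0 0
    rwa [add_zero, left_eq_mul] at this
  have hzneg : ∀ a, z (-a) = (z a)⁻¹ := fun a => by
    rw [eq_inv_iff_mul_eq_one, ← z_add, neg_add_cancel, hz0]
  have hNm : ∀ g, Nrm z g ↔ g ∈ NS z := fun g => (conj_mem_StA_iff z_inj).symm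
  have F1 : ∀ a, (φ : MulAut S) (x₀ * z a * x₀⁻¹) = x₀ * z (mv φ' a) * x₀⁻¹ := by
    intro a
    have h1 : z (mv φ' a) = x₀⁻¹ * (φ : MulAut S) (x₀ * z a * x₀⁻¹) * x₀ := by
      rw [mv_spec (z := z)]
      show (MulAut.conj x₀)⁻¹ ((φ : MulAut S) (MulAut.conj x₀ (z a))) = _
      rw [← map_inv, MulAut.conj_apply, MulAut.conj_apply, inv_inv]
    rw [h1]; group
  have F2 : ∀ a, (φ : MulAut S) (z a) = z (mv φ a) := fun a => (mv_spec φ a).symm
  have hx₀ : ¬ Nrm z x₀ := by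
    intro h
    have h1 : Nrm z (x₀ * z 1 * x₀⁻¹) := by
      rw [hNm] at h ⊢
      refine (NS z).mul_mem ((NS z).mul_mem h ?_) ((NS z).inv_mem h)
      rw [← hNm]
      exact fun a => ⟨a, by rw [← hzneg, ← z_add, ← z_add]; congr 1; ring⟩
    exact one_ne_zero (x2 1 h1)
  have hzN : ∀ a, z a ∈ NS z := fun c => (hNm _).1 fun a => ⟨a, by
    rw [← hzneg, ← z_add, ← z_add]; congr 1; ring⟩
  -- the relation
  set Q : F → F → Prop := fun a b => Nrm z (x₀⁻¹ * z b * x₀ * z a * x₀⁻¹) with hQ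
  have Qmap : ∀ a b, Q a b → Q (mv φ' a) (mv φ b) := by
    intro a b hab c
    obtain ⟨c₀, rfl⟩ := (mperm z_inj φ).surjective c
    rw [mperm_apply]
    obtain ⟨d, hd⟩ := hab c₀
    refine ⟨mv φ' d, ?_⟩
    have h1 : x₀⁻¹ * z (mv φ b) * x₀ * z (mv φ' a) * x₀⁻¹ =
        x₀⁻¹ * (φ : MulAut S) (z b * (x₀ * z a * x₀⁻¹)) := by
      rw [map_mul, F1, F2]; group
    rw [h1, ← F2]
    have h2 : ∀ w c : S, x₀⁻¹ * (φ : MulAut S) w * (φ : MulAut S) c * (x₀⁻¹ * (φ : MulAut S) w)⁻¹ =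
        x₀⁻¹ * (φ : MulAut S) (w * c * w⁻¹) * x₀ := by
      intro w c
      rw [map_mul, map_mul, map_inv]; group
    have h3 : z b * (x₀ * z a * x₀⁻¹) * z c₀ * (z b * (x₀ * z a * x₀⁻¹))⁻¹ = x₀ * z d * x₀⁻¹ := by
      rw [← hd]; group
    rw [h2, h3, F1]; group
  have Quniq : ∀ a b b', Q a b → Q a b' → b = b' := by
    intro a b b' h h'
    have h1 := (NS z).mul_mem ((hNm _).1 h') ((NS z).inv_mem ((hNm _).1 h))
    have h2 : x₀⁻¹ * z b' * x₀ * z a * x₀⁻¹ * (x₀⁻¹ * z b * x₀ * z a * x₀⁻¹)⁻¹ = x₀⁻¹ * z (b' - b) * x₀ := by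
      rw [sub_eq_add_neg, z_add, hzneg]; group
    rw [h2] at h1
    have h3 := (NS z).mul_mem ((NS z).mul_mem ((hNm _).1 x1) h1) ((NS z).inv_mem ((hNm _).1 x1))
    have h4 : x₀ * x₀ * (x₀⁻¹ * z (b' - b) * x₀) * (x₀ * x₀)⁻¹ = x₀ * z (b' - b) * x₀⁻¹ := by group
    rw [h4] at h3
    exact (sub_eq_zero.1 (x2 _ ((hNm _).2 h3))).symm
  have Qinj : ∀ a a' b, Q a b → Q a' b → a = a' := by
    intro a a' b h h'
    have h1 := (NS z).mul_mem ((NS z).inv_mem ((hNm _).1 h)) ((hNm _).1 h')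
    have h2 : (x₀⁻¹ * z b * x₀ * z a * x₀⁻¹)⁻¹ * (x₀⁻¹ * z b * x₀ * z a' * x₀⁻¹) = x₀ * z (a' - a) * x₀⁻¹ := by
      rw [sub_eq_add_neg, z_add, hzneg]
      have h3 : z a' * (z a)⁻¹ = (z a)⁻¹ * z a' := by rw [← hzneg, ← z_add, ← z_add, add_comm]
      rw [h3]; group
    rw [h2] at h1
    exact (sub_eq_zero.1 (x2 _ ((hNm _).2 h1))).symm
  have Q0 : ∀ a, ¬ Q a 0 := by
    intro a h
    apply hx₀
    rw [hNm]
    have h1 := (hNm _).1 h
    rw [hz0] at h1
    have h2 : x₀⁻¹ * 1 * x₀ * z a * x₀⁻¹ = z a * x₀⁻¹ := by group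
    rw [h2] at h1
    have h3 := (NS z).mul_mem ((NS z).inv_mem h1) (hzN a)
    have h4 : (z a * x₀⁻¹)⁻¹ * z a = x₀ := by group
    rwa [h4] at h3
  choose! f hf using x3
  set e : F → F := fun a => if a = 0 then 0 else f a with he
  have he_inj : Function.Injective e := by
    intro a a' h
    by_cases ha : a = 0
    · by_cases ha' : a' = 0
      · rw [ha, ha']
      · exfalso
        simp only [he, if_pos ha, if_neg ha'] at h
        exact Q0 a' (by have := hf a' ha'; rwa [← h] at this)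
    · by_cases ha' : a' = 0
      · exfalso
        simp only [he, if_neg ha, if_pos ha'] at h
        exact Q0 a (by have := hf a ha; rwa [h] at this)
      · simp only [he, if_neg ha, if_neg ha'] at h
        exact Qinj a a' (f a) (hf a ha) (by have := hf a' ha'; rwa [← h] at this)
  have hmv0 : ∀ χ : StA z, mv χ 0 = 0 := fun χ => mv_eq z_inj (by rw [hz0, map_one])
  have hmv_ne : ∀ (χ : StA z) a, a ≠ 0 → mv χ a ≠ 0 := by
    intro χ a ha h
    apply ha
    apply (mperm z_inj χ).injective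
    rw [mperm_apply, mperm_apply, h, hmv0]
  let E : F ≃ F := Equiv.ofBijective e (Finite.injective_iff_bijective.1 he_inj)
  have hE : ∀ a, E (mperm z_inj φ' a) = mperm z_inj φ (E a) := by
    intro a
    show e (mv φ' a) = mv φ (e a)
    by_cases ha : a = 0
    · simp only [he, ha, hmv0, if_true]
    · simp only [he, if_neg ha, if_neg (hmv_ne φ' a ha)]
      exact Quniq _ _ _ (hf _ (hmv_ne φ' a ha)) (Qmap _ _ (hf a ha))
  have hs : Equiv.Perm.sign (mperm z_inj φ') = Equiv.Perm.sign (mperm z_inj φ) :=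
    Equiv.Perm.sign_eq_sign_of_equiv _ _ E hE
  show sgn z_inj φ = sgn z_inj φ'
  unfold sgn
  simp only [MonoidHom.comp_apply]
  rw [← hs]

omit [Finite S] hpF [Finite F] in
theorem ringChar_ne_two (hp : 3 < p) : ringChar F ≠ 2 := by
  rw [ringChar.eq F p]
  omega

omit [Finite F] in
/-- The sign of powers of a non-square. -/
theorem isSquare_zpow_iff {d : Fˣ} (hd : ¬ IsSquare d) (i : ℤ) : IsSquare (d ^ i) ↔ Even i := by
  constructor
  · intro h
    by_contra hi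
    rw [Int.not_even_iff_odd] at hi
    obtain ⟨k, rfl⟩ := hi
    apply hd
    obtain ⟨c, hc⟩ := h
    refine ⟨c * (d ^ k)⁻¹, ?_⟩
    have h1 : d = c * c * (d ^ k * d ^ k)⁻¹ := by
      rw [← hc, ← zpow_add, ← zpow_neg, ← zpow_add]
      have : 2 * k + 1 + -(k + k) = 1 := by ring
      rw [this, zpow_one]
    rw [mul_mul_mul_comm, ← mul_inv]
    exact h1
  · rintro ⟨k, rfl⟩
    exact ⟨d ^ k, by rw [zpow_add]⟩

include z_add z_inj in
/-- **The theorem for families with linear characters.** -/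
theorem theta_good (hp : 3 < p) [IsSimpleGroup S] (hna : ∃ a b : S, a * b ≠ b * a)
    (hcan : ∀ φ : MulAut S, ∃ s : S, ∀ a, ∃ b, s * φ (z a) * s⁻¹ = z b)
    (hidx : ∃ U : Sylow p S, ∀ u ∈ (U : Subgroup S), Nrm z u)
    (N : Set S) (hN : ∀ y : S, ∃ a b : S, Nrm z a ∧ Nrm z b ∧ a * y * b ∈ N)
    (x₀ : S) (h1 : ∃ i : ℤ, Odd i ∧ Wit z 1 i i)
    (h2 : ∀ n ∈ N, Nrm z n ∨ Nrm z (x₀⁻¹ * n) ∨ ∃ i j : ℤ, Wit z n i j ∧ Odd (i - j))
    (h3 : ∀ n ∈ N, Nrm z n ∨ ∃ i j : ℤ, Wit z n i j ∧ ¬ ((p : ℤ) - 1 ∣ i - j))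
    (x1 : Nrm z (x₀ * x₀)) (x2 : ∀ a, Nrm z (x₀ * z a * x₀⁻¹) → a = 0)
    (x3 : ∀ a, a ≠ 0 → ∃ b, Nrm z (x₀⁻¹ * z b * x₀ * z a * x₀⁻¹)) : Good p S := by
  classical
  have : Fintype F := Fintype.ofFinite F
  have : Fintype S := Fintype.ofFinite S
  have : Fintype (MulAut S) := Fintype.ofFinite _
  have h2F := ringChar_ne_two (F := F) hp
  obtain ⟨β, hβ, hβ1, Ψ, hΨ, hΨβ⟩ := delta_char z_add z_inj hp hcan N hN h3
  -- a non-square
  obtain ⟨d, hd⟩ : ∃ d : Fˣ, ¬ IsSquare d := by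
    obtain ⟨a, ha⟩ := FiniteField.exists_nonsquare h2F
    have ha0 : a ≠ 0 := by
      rintro rfl
      exact ha ⟨0, by simp⟩
    refine ⟨Units.mk0 a ha0, ?_⟩
    rintro ⟨c, hc⟩
    exact ha ⟨c, by simpa using congrArg Units.val hc⟩
  set P := NS z with hP
  have hNm : ∀ g, Nrm z g ↔ g ∈ P := fun g => (conj_mem_StA_iff z_inj).symm
  set σ := rS z (sgn z_inj) with hσ
  set Θ := indFun (StA z) (fun t => (sgn z_inj t : ℂ)) with hΘdef
  set Θ' := indFun P (fun t => (σ t : ℂ)) with hΘ'def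
  have hΘ : IsCharacter (MulAut S) Θ := S0148.result _ _ (Characters.Linear.isCharacter_hom _)
  have hΘ' : IsCharacter S Θ' := S0148.result _ _ (Characters.Linear.isCharacter_hom _)
  have hcomp : Θ ∘ (MulAut.conj : S →* MulAut S) = Θ' := by
    funext s
    exact ind_comp z_inj hcan _ s
  have hx₀ : x₀ ∉ P := by
    intro h
    have h4 : Nrm z (x₀ * z 1 * x₀⁻¹) := by
      rw [hNm]
      refine P.mul_mem (P.mul_mem h ?_) (P.inv_mem h)
      rw [← hNm]
      intro a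
      refine ⟨a, ?_⟩
      rw [← z_add, add_comm, z_add, mul_inv_cancel_right]
    exact one_ne_zero (x2 1 h4)
  -- the norm over `S` is at most two
  obtain ⟨nA, nS, hnA, hnS, hle⟩ := inner_mono (MulAut.conj : S →* MulAut S) hΘ hΘ
  rw [hcomp] at hnS
  have hS2 : nS ≤ 2 := by
    have key := norm_le P σ (ι := Fin 2) ![1, x₀] ?_ hnS
    · simpa using key
    · intro y hy
      obtain ⟨a, b, ha, hb, hn⟩ := hN y
      have ha' := (hNm _).1 ha
      have hb' := (hNm _).1 hb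
      rcases h2 _ hn with h | h | ⟨i, j, hw, hij⟩
      · refine ⟨0, y, ?_, 1, P.one_mem, by simp⟩
        have h4 := P.mul_mem (P.mul_mem (P.inv_mem ha') ((hNm _).1 h)) (P.inv_mem hb')
        have h5 : a⁻¹ * (a * y * b) * b⁻¹ = y := by group
        rwa [h5] at h4
      · refine ⟨1, a⁻¹, P.inv_mem ha', (x₀⁻¹ * (a * y * b)) * b⁻¹, P.mul_mem ((hNm _).1 h) (P.inv_mem hb'), ?_⟩
        show y = a⁻¹ * x₀ * ((x₀⁻¹ * (a * y * b)) * b⁻¹)
        group
      · exfalso
        obtain ⟨t, ht, ht'⟩ := hw d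
        have h4 := (hy.mul_mem ha' hb') ⟨t, ht.mem z_inj⟩ (ht'.mem z_inj)
        have h5 := congrArg (Units.val) h4
        have h6 : (((sgn z_inj ⟨MulAut.conj t, ht.mem z_inj⟩ : ℂˣ)) : ℂ) =
          ((sgn z_inj ⟨MulAut.conj ((a * y * b)⁻¹ * t * (a * y * b)), ht'.mem z_inj⟩ : ℂˣ) : ℂ) := h5
        rw [sgn_sc h2F z_inj ht, sgn_sc h2F z_inj ht'] at h6
        have hsi := isSquare_zpow_iff hd i
        have hsj := isSquare_zpow_iff hd j
        rcases Int.even_or_odd i with hi | hi <;> rcases Int.even_or_odd j with hj | hj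
        · exact (Int.not_even_iff_odd.2 hij) (hi.sub hj)
        · rw [if_pos (hsi.2 hi), if_neg (fun h => Int.not_even_iff_odd.2 hj (hsj.1 h))] at h6
          norm_num at h6
        · rw [if_neg (fun h => Int.not_even_iff_odd.2 hi (hsi.1 h)), if_pos (hsj.2 hj)] at h6
          norm_num at h6
        · exact (Int.not_even_iff_odd.2 hij) (hi.sub_odd hj)
  -- the norm over `MulAut S` is at least two
  have hA2 : 2 ≤ nA := by
    have hag := agree_sgn z_add z_inj x₀ x1 x2 x3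
    have hx₀' : MulAut.conj x₀ ∉ StA z := hx₀
    have key := norm_ge (StA z) (sgn z_inj) (ι := Fin 2) ![1, MulAut.conj x₀] ?_ ?_ hnA
    · simpa using key
    · intro i
      fin_cases i
      · exact agree_of_mem _ _ (StA z).one_mem
      · exact hag
    · intro i j hij
      fin_cases i <;> fin_cases j
      · exact absurd rfl hij
      · rintro ⟨a, ha, b, hb, h⟩
        apply hx₀'
        have h' : MulAut.conj x₀ = a * 1 * b := h
        rw [h', mul_one]
        exact (StA z).mul_mem ha hb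
      · rintro ⟨a, ha, b, hb, h⟩
        apply hx₀'
        have h' : (1 : MulAut S) = a * MulAut.conj x₀ * b := h
        have h4 : MulAut.conj x₀ = a⁻¹ * b⁻¹ := by
          have h5 : MulAut.conj x₀ = a⁻¹ * (a * MulAut.conj x₀ * b) * b⁻¹ := by group
          rw [h5, ← h', mul_one]
        rw [h4]
        exact (StA z).mul_mem ((StA z).inv_mem ha) ((StA z).inv_mem hb)
      · exact absurd rfl hij
  have hnA2 : nA = 2 := by omega
  have hnS2 : nS = 2 := by omega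
  -- a constituent of degree prime to `p`
  have hdeg : Θ' 1 = (P.index : ℂ) := by
    rw [hΘ'def, indFun_one, map_one]; simp
  have hpP : ¬ p ∣ P.index := not_dvd_index z_inj hidx
  obtain ⟨α, hα, hne, c, hc, hpc, hcle⟩ := exists_irr_constituent hΘ' hdeg hpP
  have hclt : c ≠ P.index := by
    intro h
    have h4 := isCharacter_sub_irr hΘ' hα hne
    have h5 : (Θ' - α) 1 = 0 := by rw [Pi.sub_apply, hdeg, hc, h, sub_self]
    have h6 := sub_eq_zero.1 (eq_zero_of_one h4 h5)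
    rw [h6, classInner_irr_self hα, hnS2] at hnS
    norm_num at hnS
  have hc1 : c ≠ 1 := by
    intro h
    rw [h, Nat.cast_one] at hc
    have h4 := irr_eq_one hna hα hc
    apply hne
    rw [h4, classInner_indFun P _ _ (fun _ _ => rfl)]
    have h5 : σ ≠ 1 := by
      intro h5
      obtain ⟨i, hi, hw⟩ := h1
      obtain ⟨t, ht, -⟩ := hw d
      have h6 : ((σ ⟨t, ht.mem z_inj⟩ : ℂˣ) : ℂ) = if IsSquare (d ^ i) then 1 else -1 := sgn_sc h2F z_inj ht
      rw [h5, if_neg (fun h => Int.not_even_iff_odd.2 hi ((isSquare_zpow_iff hd i).1 h))] at h6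
      norm_num at h6
    have h7 : ∑ t : P, ((σ t : ℂˣ) : ℂ) = 0 := by
      have h8 : (Units.coeHom ℂ).comp σ ≠ 1 := by
        intro h9
        apply h5
        ext t
        exact congrArg (fun f : P →* ℂ => f t) h9
      exact sum_hom_units_eq_zero _ h8
    unfold classInner
    simp only [map_one, mul_one]
    rw [h7, mul_zero]
  have hidx1 : P.index ≠ 1 := by
    rw [Ne, Subgroup.index_eq_one]
    intro h
    exact hx₀ (by rw [h]; trivial)
  obtain ⟨Ψ', hΨ', hΨα, -⟩ := exists_ext_of_norm (MulAut.conj : S →* MulAut S) hΘ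
    (by rw [hcomp, hnS, hnA, hnS2, hnA2]) hα (by rw [hcomp]; exact hne)
  refine good_of hα hβ hc hβ1 hc1 hidx1 hpc hpP ⟨Ψ', hΨ', fun s => congrFun hΨα s⟩ ?_ ?_
  · intro h
    have h4 : 0 < c := by
      rcases Nat.eq_zero_or_pos c with h5 | h5
      · exfalso; rw [h5] at hpc; exact hpc (dvd_zero _)
      · exact h5
    have h6 := Nat.le_of_dvd h4 h
    omega
  · rintro φ - s
    rw [← hΨβ, ← hΨβ]
    have h4 : MulAut.conj (φ s) = φ * MulAut.conj s * φ⁻¹ := by
      ext x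
      simp [MulAut.conj_apply]
    rw [h4]
    exact isIrr_isClassFunction hΨ _ _

end Main

end Cfsg.Agent.H687
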