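import Mathlib
import Cfsg.Agent.H687.CrossGeo
import Cfsg.Agent.H687.CGeoTwF
import Cfsg.Agent.H650.CrossH415
import Cfsg.Agent.H949.LieDZ
import Cfsg.Agent.H761.LieExt

/-!
# S4834: groups of Lie type, cross characteristic (helper687)

* `cross_of_lie` : the predicate `Cross` for all groups of Lie type;
* `good_cross` : the statement for the primes different from the characteristic.
-/

set_option autoImplicit false

namespace Cfsg.Agent.H687

open Cfsg Cfsg.Agent.H415.Cross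

universe u

theorem not_comm {S : Type*} [Group S] (hna : ¬ IsMulCommutative S) : ∃ a b : S, a * b ≠ b * a := by
  by_contra h
  push Not at h
  exact hna ⟨⟨h⟩⟩

/-- Groups of Lie type: geometric data or one of the small families. -/
theorem cross_of_lie {S : Type u} [Group S] [Finite S] [IsSimpleGroup S] (hna : ¬ IsMulCommutative S) {r p : ℕ}
    [hr : Fact r.Prime] [hp : Fact p.Prime] (hp3 : 3 < p) (hpr : p ≠ r) (h : IsLieTypeChar r S) : Cross p r S := by
  have hna' := not_comm hna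
  have hp5 : 5 ≤ p := by
    have h4 : p ≠ 4 := by
      rintro rfl
      exact absurd hp.1 (by norm_num)
    omega
  have key : CGeo r p S → Cross p r S := fun hg => cross_of_cgeo hna' hp.1 hpr hg
    fun χ hχ hχ1 k hk => H949.LieDZ.defect_zero_of_pow hna' hr.1 h hχ hχ1 hk
  rcases h with h1 | h1 | h1 | h1 | h1 | h1 | h1 | h1 | h1 | h1 | h1
  · obtain ⟨F, _, _, _, n, hn, hn4, ⟨e⟩⟩ := h1
    rcases (by omega : n = 2 ∨ n = 3 ∨ 4 ≤ n) with rfl | rfl | h4
    · exact Cross.of_equiv e (H650.CrossH415.cross_psl2 hp3 (by rw [Nat.card_eq_fintype_card]; exact hn4 rfl))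
    · exact Cross.of_equiv e (H650.CrossH415.cross_psl3 hp3)
    · exact key (cgeo_PSL hp.1 hp5 h4 e)
  · exact key (cgeo_classical hp.1 hp5 (Or.inl h1))
  · obtain ⟨F, _, _, _, n, q, hF, hn, hn3, ⟨e⟩⟩ := h1
    rcases (by omega : n = 3 ∨ 4 ≤ n) with rfl | h4
    · exact Cross.of_equiv e (H650.CrossH415.cross_psu3 hF (fun hq => hn3 ⟨rfl, hq⟩) hp3)
    · exact key (cgeo_PSU hp.1 hp5 hF h4 e)
  · exact key (cgeo_classical hp.1 hp5 (Or.inr (Or.inl h1)))
  · exact key (cgeo_classical hp.1 hp5 (Or.inr (Or.inr (Or.inl h1))))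
  · exact key (cgeo_classical hp.1 hp5 (Or.inr (Or.inr (Or.inr h1))))
  · exact key (cgeo_exc hp.1 hp5 h1)
  · exact key (cgeo_tw hp.1 hp5 h1)
  · obtain ⟨rfl, h1⟩ := h1
    exact cross_suz h1 hna'
  · obtain ⟨rfl, F, _, _, m, hm, hF, ⟨e⟩⟩ := h1
    have hfin : Finite ↥(Lie.twistedF4 F (2 ^ m)) := Finite.of_equiv S e.toEquiv
    have hs : IsSimpleGroup ↥(Lie.twistedF4 F (2 ^ m)) := e.isSimpleGroup_congr.1 inferInstance
    have hg : CGeo 2 p ↥(Lie.twistedF4 F (2 ^ m)) := cgeo_twF hF hp.1 hp5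
    have hna2 : ∃ a b : ↥(Lie.twistedF4 F (2 ^ m)), a * b ≠ b * a := by
      obtain ⟨a, b, hab⟩ := hna'
      exact ⟨e a, e b, fun h => hab (e.injective (by rw [map_mul, map_mul, h]))⟩
    have hL : IsLieTypeChar 2 ↥(Lie.twistedF4 F (2 ^ m)) :=
      Or.inr (Or.inr (Or.inr (Or.inr (Or.inr (Or.inr (Or.inr (Or.inr (Or.inr (Or.inl ⟨rfl, F, _, _, m, hm, hF,
        ⟨MulEquiv.refl _⟩⟩)))))))))
    exact Cross.of_equiv e (cross_of_cgeo hna2 hp.1 hpr hg
      fun χ hχ hχ1 k hk => H949.LieDZ.defect_zero_of_pow hna2 hr.1 hL hχ hχ1 hk)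
  · obtain ⟨rfl, h1⟩ := h1
    exact cross_ree h1 hna'

/-- **Groups of Lie type, cross characteristic.** -/
theorem good_cross {S : Type u} [Group S] [Finite S] [IsSimpleGroup S] (hna : ¬ IsMulCommutative S) {r p : ℕ}
    [hr : Fact r.Prime] [hp : Fact p.Prime] (hp3 : 3 < p) (hpr : p ≠ r) (h : IsLieTypeChar r S) : Good p S := by
  obtain ⟨θ, hθ, ψ, hψ⟩ := H761.LieExt.lie_ext hna h
  obtain ⟨β, hβ, ⟨b, hb, hb1, hpb, hbr⟩, hinv⟩ := cross_of_lie hna hp3 hpr h
  have hd := Irr.one_eq θ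
  refine good_of θ.2 hβ hd hb ?_ hb1 ?_ hpb ⟨ψ, ψ.2, hψ⟩ ?_ hinv
  · rw [hθ]
    intro h1
    -- `r` divides the order
    have h2 : (Nat.card S).factorization r = 0 := by
      by_contra h3
      have h4 := Nat.one_lt_pow h3 hr.1.one_lt
      omega
    obtain ⟨P, U, ⟨s, hs⟩, hS⟩ := H979.LieSplit.hasSplit_of_isLieTypeChar hr.1 h
    obtain ⟨V, hV⟩ := hS.node s hs
    obtain ⟨u, hu, huV⟩ := hV.ne
    obtain ⟨k, hk⟩ := hS.isP ⟨u, hu⟩
    have hu1 : u ≠ 1 := fun e => huV (by rw [e]; exact one_mem _)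
    have hk' : u ^ r ^ k = 1 := by
      have := congrArg Subtype.val hk
      simpa using this
    obtain ⟨j, -, hj⟩ := (Nat.dvd_prime_pow hr.1).1 (orderOf_dvd_of_pow_eq_one hk')
    have hj0 : j ≠ 0 := by
      rintro rfl
      rw [pow_zero, orderOf_eq_one_iff] at hj
      exact hu1 hj
    have h3 : r ∣ Nat.card S := by
      refine dvd_trans ?_ (orderOf_dvd_natCard u)
      rw [hj]
      exact dvd_pow_self r hj0
    rw [Nat.factorization_eq_zero_iff] at h2
    rcases h2 with h2 | h2 | h2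
    · exact h2 hr.1
    · exact h2 h3
    · exact Nat.card_pos.ne' h2
  · rw [hθ]
    intro h1
    exact hpr ((Nat.prime_dvd_prime_iff_eq hp.1 hr.1).1 (hp.1.dvd_of_dvd_pow h1))
  · rw [hθ]
    intro h1
    obtain ⟨k, -, hk⟩ := (Nat.dvd_prime_pow hr.1).1 h1
    exact hbr k hk

end Cfsg.Agent.H687
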