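import Mathlib
import Cfsg.Agent.H687.CrossAll
import Cfsg.Agent.H912.KnownSplit
import Cfsg.Agent.H949.GoodPsl
import Cfsg.Agent.H949.GoodAlt
import Cfsg.Agent.H279.GoodPSL
import Cfsg.Agent.H594.GoodPSU
import Cfsg.Agent.H443.GoodChev
import Cfsg.Agent.H650.GoodPSL4
import Cfsg.Agent.H34.SporHyp
import Cfsg.Agent.H967.ThTwGood
import Cfsg.Agent.H967.ThF4
import Cfsg.Agent.S0252
import Cfsg.Agent.S0254

/-!
# S4834: the assembly (helper687)

* `good_alt` : alternating groups;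
* `Miss p` : the families of Lie type in characteristic `p` which are proved elsewhere;
* `good_lie` : simple groups of Lie type, all characteristics;
* `good_known` : all known simple groups.
-/

set_option autoImplicit false

namespace Cfsg.Agent.H687

open Cfsg

universe u

/-- Transport of non-commutativity along an isomorphism. -/
theorem not_mulComm_of_equiv {S T : Type*} [Group S] [Group T] (e : S ≃* T) (h : ¬ IsMulCommutative S) :
    ¬ IsMulCommutative T := by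
  intro hT
  refine h ⟨⟨fun a b => e.injective ?_⟩⟩
  rw [map_mul, map_mul]
  exact hT.is_comm.comm _ _

theorem isLie_alt_five {S : Type u} [Group S] (h : Nonempty (S ≃* alternatingGroup (Fin 5))) : IsLieTypeChar 2 S := by
  obtain ⟨e⟩ := h
  have hp : Fact (Nat.Prime 2) := ⟨Nat.prime_two⟩
  let _ : Fintype (GaloisField 2 2) := Fintype.ofFinite _
  have hc : Fintype.card (GaloisField 2 2) = 4 := by
    rw [← Nat.card_eq_fintype_card, GaloisField.card 2 2 (by norm_num)]; norm_num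
  obtain ⟨e'⟩ := S0252.result hc
  exact Or.inl ⟨GaloisField 2 2, inferInstance, inferInstance, inferInstance, 2, le_rfl, fun _ => hc.ge,
    ⟨e.trans e'.symm⟩⟩

theorem isLie_alt_six' {S : Type u} [Group S] (h : Nonempty (S ≃* alternatingGroup (Fin 6))) : IsLieTypeChar 3 S := by
  obtain ⟨e⟩ := h
  have hp : Fact (Nat.Prime 3) := ⟨Nat.prime_three⟩
  let _ : Fintype (GaloisField 3 2) := Fintype.ofFinite _
  have hc : Fintype.card (GaloisField 3 2) = 9 := by
    rw [← Nat.card_eq_fintype_card, GaloisField.card 3 2 (by norm_num)]; norm_num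
  obtain ⟨e'⟩ := S0254.result hc
  exact Or.inl ⟨GaloisField 3 2, inferInstance, inferInstance, inferInstance, 2, le_rfl,
    fun _ => by rw [hc]; norm_num, ⟨e.trans e'.symm⟩⟩

/-- **Alternating groups.** -/
theorem good_alt {S : Type u} [Group S] [Finite S] [IsSimpleGroup S] (hna : ¬ IsMulCommutative S) {p : ℕ}
    [hp : Fact p.Prime] (hp3 : 3 < p) (h : IsAlternating S) : Good p S := by
  obtain ⟨n, hn, ⟨e⟩⟩ := h
  rcases (by omega : n = 5 ∨ n = 6 ∨ 7 ≤ n) with rfl | rfl | h7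
  · have h2 : Fact (Nat.Prime 2) := ⟨Nat.prime_two⟩
    exact good_cross (r := 2) hna hp3 (by omega) (isLie_alt_five ⟨e⟩)
  · have h2 : Fact (Nat.Prime 3) := ⟨Nat.prime_three⟩
    exact good_cross (r := 3) hna hp3 (by omega) (isLie_alt_six' ⟨e⟩)
  · exact Good.of_equiv e (H949.GoodAlt.good_ge_seven hp.1 hp3 h7)

/-- The families of Lie type in characteristic `p` treated elsewhere. -/
structure Miss (p : ℕ) [Fact p.Prime] : Prop where
  psp : ∀ (F : Type) [Field F] [Fintype F] [CharP F p] (m : ℕ), 2 ≤ m → Good p (PSp m F)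
  psu4 : ∀ (F : Type) [Field F] [Fintype F] [CharP F p] (q : ℕ), Fintype.card F = q ^ 2 → Good p (PSU 4 F q)
  po_odd : ∀ (F : Type) [Field F] [Fintype F] [CharP F p] (m : ℕ), 3 ≤ m → Good p (POmega F (quadFormOdd m F))
  po_plus : ∀ (F : Type) [Field F] [Fintype F] [CharP F p] (m : ℕ), 4 ≤ m → Good p (POmega F (quadFormPlus m F))
  po_minus : ∀ (F : Type) [Field F] [Fintype F] [CharP F p] (m : ℕ) (a b : F), 4 ≤ m →
    (∀ z₁ z₂ : F, z₁ ^ 2 + a * z₁ * z₂ + b * z₂ ^ 2 = 0 → z₁ = 0 ∧ z₂ = 0) →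
    Good p (POmega F (quadFormMinus (m - 1) F a b))

/-- **Groups of Lie type, defining characteristic.** -/
theorem good_defining {S : Type u} [Group S] [Finite S] [IsSimpleGroup S] {p : ℕ}
    [hp : Fact p.Prime] (hp3 : 3 < p) (M : Miss p) (h : IsLieTypeChar p S) : Good p S := by
  rcases h with h1 | h1 | h1 | h1 | h1 | h1 | h1 | h1 | h1 | h1 | h1
  · obtain ⟨F, _, _, _, n, hn, hn4, ⟨e⟩⟩ := h1
    refine Good.of_equiv e ?_
    rcases (by omega : n = 2 ∨ n = 4 ∨ (3 ≤ n ∧ n ≠ 4)) with rfl | rfl | h4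
    · exact H949.GoodPsl.good_psl2 hp3
    · exact H650.GoodPSL4.good_psl4 hp3
    · exact H279.GoodPSL.good_psl hp3 h4.1 h4.2
  · obtain ⟨F, _, _, _, m, hm, -, ⟨e⟩⟩ := h1
    exact Good.of_equiv e (M.psp F m hm)
  · obtain ⟨F, _, _, _, n, q, hF, hn, hn3, ⟨e⟩⟩ := h1
    refine Good.of_equiv e ?_
    by_cases h4 : n = 4
    · subst h4
      exact M.psu4 F q hF
    · exact H594.GoodPSU.good_psu hp3 hF hn h4
  · obtain ⟨F, _, _, _, m, hm, -, ⟨e⟩⟩ := h1
    exact Good.of_equiv e (M.po_odd F m hm)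
  · obtain ⟨F, _, _, _, m, hm, ⟨e⟩⟩ := h1
    exact Good.of_equiv e (M.po_plus F m hm)
  · obtain ⟨F, _, _, _, m, a, b, hm, hab, ⟨e⟩⟩ := h1
    exact Good.of_equiv e (M.po_minus F m a b hm hab)
  · obtain ⟨F, _, _, _, h1⟩ := h1
    rcases h1 with ⟨-, ⟨e⟩⟩ | ⟨⟨e⟩⟩ | ⟨⟨e⟩⟩ | ⟨⟨e⟩⟩ | ⟨⟨e⟩⟩
    · exact Good.of_equiv e (H443.GoodChev.good_chev hp3 Lie.chevG2 (by simp))
    · exact Good.of_equiv e (H967.ThF4.good_F4 hp3)
    · exact Good.of_equiv e (H443.GoodChev.good_chev hp3 Lie.chevE6 (by simp))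
    · exact Good.of_equiv e (H443.GoodChev.good_chev hp3 Lie.chevE7 (by simp))
    · exact Good.of_equiv e (H443.GoodChev.good_chev hp3 Lie.chevE8 (by simp))
  · obtain ⟨F, _, _, _, q, hq, h1⟩ := h1
    rcases h1 with ⟨hF, ⟨e⟩⟩ | ⟨hF, ⟨e⟩⟩
    · exact Good.of_equiv e (H967.ThTw.good_twE6 hp3 hF)
    · exact Good.of_equiv e (H967.ThTw.good_twD4 hp3 hF)
  · obtain ⟨rfl, -⟩ := h1
    omega
  · obtain ⟨rfl, -⟩ := h1
    omega
  · obtain ⟨rfl, -⟩ := h1
    omega

/-- **Groups of Lie type.** -/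
theorem good_lie {S : Type u} [Group S] [Finite S] [IsSimpleGroup S] (hna : ¬ IsMulCommutative S) {p r : ℕ}
    [hp : Fact p.Prime] (hr : r.Prime) (hp3 : 3 < p) (M : Miss p) (h : IsLieTypeChar r S) : Good p S := by
  have : Fact r.Prime := ⟨hr⟩
  by_cases hpr : p = r
  · subst hpr
    exact good_defining hp3 M h
  · exact good_cross hna hp3 hpr h

/-- **All known simple groups.** -/
theorem good_known {S : Type u} [Group S] [Finite S] [IsSimpleGroup S] (hna : ¬ IsMulCommutative S) {p : ℕ}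
    [hp : Fact p.Prime] (hp3 : 3 < p) (M : Miss p)
    (hT : Lie.IsoTits S → p ^ 2 ∣ Nat.card S → Good p S)
    (hS : IsSporadicGroup S → p ^ 2 ∣ Nat.card S → Good p S) (h : IsKnownSimple' S) : Good p S := by
  rcases H912.Known.known_split h (H912.Known.not_primeCyclic hna) with h | ⟨r, hr, h⟩ | h | h
  · exact good_alt hna hp3 h
  · exact good_lie hna hr hp3 M h
  · by_cases h2 : p ^ 2 ∣ Nat.card S
    · exact hT h h2
    · exact H34.SporHyp.good_small_tits h hp.1 hp3 h2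
  · by_cases h2 : p ^ 2 ∣ Nat.card S
    · exact hS h h2
    · exact H34.SporHyp.good_small_spor h hp.1 hp3 h2

end Cfsg.Agent.H687
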