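import Cfsg.Agent.H419.Spor.Co1
import Cfsg.Agent.H635.SporOut1
import Cfsg.Agent.H34.SporHyp
import Cfsg.Agent.NotCT.Orders
import Cfsg.Agent.S0399

/-!
# S4834: the group `Co1`, `p = 5` and `p = 7` (helper687)

There is an irreducible character of degree `276 = 4 * 3 * 23`; if all nontrivial irreducible characters of degree prime to
`p` had the degree `276`, the principal 23-block would be trivial.
-/

set_option autoImplicit false

namespace Cfsg.Agent.H687.Co1Row

open Cfsg Cfsg.Agent.H635.Spor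

universe u

theorem exists_276 : ∃ θ : IrrCharacter Spor.Co1, charDegree (θ : Spor.Co1 → ℂ) = 276 := by
  obtain ⟨θ, hθ⟩ := H419.Spor.Co1.exists_irr (H419.Spor.Co1.psi_perm H419.Spor.Co1.y6_fix H419.Spor.Co1.y6_fix2)
  refine ⟨θ, H687.charDegree_of_eq ?_⟩
  have h := hθ 1
  rw [map_one, H419.Spor.Co1.psi_one] at h
  rw [h]
  norm_num

/-- A group without outer automorphisms, with an irreducible character of degree `m` prime to `p` divisible by the full
power of a prime `q`. -/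
theorem good_of_full {S : Type u} [Group S] (h : Hyp S) (hO : Nat.card (Cfsg.Out S) = 1) {p : ℕ} (hp : p.Prime)
    (hp2 : p ≠ 2) {m : ℕ} (hm : ∃ θ : IrrCharacter S, charDegree (θ : S → ℂ) = m) (hm1 : m ≠ 1) (hpm : ¬ p ∣ m) {q a : ℕ}
    (hq : q.Prime) (hqS : q ∣ Nat.card S) (ha : ¬ q ^ (a + 1) ∣ Nat.card S) (hqm : q ^ a ∣ m) : H687.Good p S := by
  have := h.fin
  by_contra hng
  obtain ⟨d, hd⟩ := flat_of_not_good h hO hp hp2 hng
  obtain ⟨θ, hθ⟩ := hm
  have h1 : charDegree (θ : S → ℂ) = d := by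
    refine hd θ (fun h1 => hm1 ?_) (by rw [hθ]; exact hpm)
    rw [← hθ]
    apply H687.charDegree_of_eq
    rw [h1]
    simp
  apply hd.not_full hp.one_lt hq hqS ha
  rw [← h1, hθ]
  exact hqm

theorem good_co1 {p : ℕ} (hp : p.Prime) (hp2 : p ≠ 2) (hpm : ¬ p ∣ 276) : H687.Good p Spor.Co1 := by
  have h0 : Spor.IsoCo1 Spor.Co1 := ⟨MulEquiv.refl _⟩
  have : IsSimpleGroup Spor.Co1 := Cfsg.Agent.S0399.result.1
  have hS : Hyp Spor.Co1 := H34.SporHyp.hyp_spor (by unfold IsSporadicGroup; tauto)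
  have hc := NotCT.Orders.co1 h0
  exact good_of_full hS S2069.result hp hp2 exists_276 (by norm_num) hpm (q := 23) (a := 1) (by norm_num)
    (by rw [hc]; norm_num) (by rw [hc]; norm_num) (by norm_num)

/-- **The group `Co1`, `p = 5` and `p = 7`.** -/
theorem good_Co1 {S : Type u} [Group S] (h : Spor.IsoCo1 S) {p : ℕ} (hp : p.Prime) (hp2 : p ≠ 2) (hpm : ¬ p ∣ 276) :
    H687.Good p S := by
  obtain ⟨e⟩ := h
  exact H687.Good.of_equiv e (good_co1 hp hp2 hpm)

end Cfsg.Agent.H687.Co1Row
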