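import Mathlib
import Cfsg.Agent.H687.Theta
import Cfsg.Agent.CharactersDeep.ExtUnique

/-!
# S4834: the defining characteristic, families with a cuspidal character of `PGL(2, F)` (helper687)

* `CuspDat` : a subgroup `P` of index prime to `p` with `ρ : P →* PGL(2, F)`, `D : P →* Fˣ` (`D` = determinant);
* `IsCusp p F π` : the properties of the cuspidal character `π` of `PGL(2, F)`;
* `cusp_good` : the theorem.
-/

set_option autoImplicit false

namespace Cfsg.Agent.H687

open Cfsg Matrix MatrixGroups Cfsg.Agent.Characters.Core Cfsg.Agent.OddOrderCharacters.Clifford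
open Matrix.GeneralLinearGroup (upperRightHom)
open scoped ComplexConjugate

universe u v

/-- The data of a parabolic subgroup `P` (stabiliser of a totally singular plane `W`), `ρ` the action on `W` modulo
scalars, `D` the determinant on `W`, `x₀` an element mapping `W` to an opposite plane. -/
structure CuspDat (p : ℕ) {S : Type u} [Group S] (F : Type v) [Field F] (P : Subgroup S) (ρ : P →* PGL(2, F))
    (D : P →* Fˣ) (x₀ : S) : Prop where
  idx : ¬ p ∣ P.index
  ne_top : P ≠ ⊤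
  compat : ∀ t : P, ∃ g : GL (Fin 2) F, ρ t = ProjGenLinGroup.mk g ∧ D t = g.det
  /-- `y ∉ P`: opposite, or a transvection group of `P` acts trivially on `y W` -/
  tr : ∀ y : S, y ∉ P → (∃ a ∈ P, ∃ b ∈ P, y = a * x₀ * b) ∨
    ∃ (X : F → P) (k : PGL(2, F)), (∀ a b, X (a + b) = X a * X b) ∧
      (∀ c, ρ (X c) = k * ProjGenLinGroup.mk (upperRightHom c) * k⁻¹) ∧
      ∀ c, ∃ h : y⁻¹ * (X c : S) * y ∈ P, ρ ⟨y⁻¹ * (X c : S) * y, h⟩ = 1
  opp : ∃ k₀ : PGL(2, F), ∀ (t : P) (h : x₀⁻¹ * (t : S) * x₀ ∈ P),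
    ρ ⟨x₀⁻¹ * (t : S) * x₀, h⟩ = k₀ * ρ t * k₀⁻¹ ∧ D ⟨x₀⁻¹ * (t : S) * x₀, h⟩ = (D t)⁻¹
  opp_surj : ∀ g : GL (Fin 2) F, ∃ t : P, x₀⁻¹ * (t : S) * x₀ ∈ P ∧ ρ t = ProjGenLinGroup.mk g ∧ D t = g.det
  /-- automorphisms of `p`-power order act as field automorphisms of `p`-power order, up to inner automorphisms -/
  inv : ∀ φ : MulAut S, (∃ k : ℕ, orderOf φ = p ^ k) → ∃ (s : S) (θ : F ≃+* F) (k : PGL(2, F)), (∃ m : ℕ, θ ^ p ^ m = 1) ∧
    ∀ t : P, ∃ h : s * φ t * s⁻¹ ∈ P, D ⟨s * φ t * s⁻¹, h⟩ = Units.map (θ : F →* F) (D t) ∧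
      ∀ g : GL (Fin 2) F, ρ t = ProjGenLinGroup.mk g → ρ ⟨s * φ t * s⁻¹, h⟩ =
        k * ProjGenLinGroup.mk (GeneralLinearGroup.map (θ : F →+* F) g) * k⁻¹

/-- The properties of the cuspidal character of `PGL(2, F)`. -/
structure IsCusp (p : ℕ) (F : Type v) [Field F] [Fintype F] (π : PGL(2, F) → ℂ) : Prop where
  irr : IsIrrCharacter PGL(2, F) π
  deg : ∃ d : ℕ, π 1 = d ∧ ¬ p ∣ d ∧ d ≠ 1
  sum : ∑ c : F, π (ProjGenLinGroup.mk (upperRightHom c)) = 0
  inv : ∀ θ : F ≃+* F, (∃ m : ℕ, θ ^ p ^ m = 1) → ∀ g : GL (Fin 2) F,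
    π (ProjGenLinGroup.mk (GeneralLinearGroup.map (θ : F →+* F) g)) = π (ProjGenLinGroup.mk g)
  ne : ∃ g : GL (Fin 2) F, ¬ IsSquare g.det ∧ π (ProjGenLinGroup.mk g) ≠ 0

/-! ### general lemmas -/

/-- No fixed vectors: the sum over a coset vanishes. -/
theorem sum_coset_eq_zero {H : Type u} [Group H] {χ : H → ℂ} (hχ : IsCharacter H χ) {F : Type v} [Field F] [Fintype F]
    (X : F → H) (hX : ∀ a b, X (a + b) = X a * X b) (h0 : ∑ c, χ (X c) = 0) (h : H) : ∑ c, χ (h * X c) = 0 := by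
  obtain ⟨n, R, rfl⟩ := hχ
  have hX0 : X 0 = 1 := by
    have := hX 0 0
    rwa [add_zero, left_eq_mul] at this
  set E : (Fin n → ℂ) →ₗ[ℂ] (Fin n → ℂ) := (Fintype.card F : ℂ)⁻¹ • ∑ c, R (X c) with hE
  have hc : (Fintype.card F : ℂ) ≠ 0 := by exact_mod_cast Fintype.card_ne_zero
  have h1 : ∀ a, R (X a) * ∑ c, R (X c) = ∑ c, R (X c) := by
    intro a
    rw [Finset.mul_sum]
    refine Fintype.sum_equiv (Equiv.addLeft a) _ _ fun c => ?_
    rw [← map_mul, ← hX]
    rfl
  have hid : IsIdempotentElem E := by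
    show E * E = E
    rw [hE, smul_mul_smul_comm, Finset.sum_mul, Finset.sum_congr rfl fun a _ => h1 a, Finset.sum_const,
      Finset.card_univ, ← Nat.cast_smul_eq_nsmul ℂ, smul_smul, mul_assoc, inv_mul_cancel₀ hc, mul_one]
  have htr : LinearMap.trace ℂ (Fin n → ℂ) E = 0 := by
    rw [hE, map_smul, map_sum]
    have : ∑ c, LinearMap.trace ℂ (Fin n → ℂ) (R (X c)) = 0 := h0
    rw [this, smul_zero]
  have hE0 : E = 0 := LinearMap.IsIdempotentElem.eq_zero_of_trace_eq_zero hid htr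
  have hs : ∑ c, R (X c) = 0 := by
    rw [hE] at hE0
    rcases smul_eq_zero.1 hE0 with h2 | h2
    · exact absurd h2 (inv_ne_zero hc)
    · exact h2
  have h3 : ∑ c, R (h * X c) = 0 := by
    have : ∑ c, R (h * X c) = R h * ∑ c, R (X c) := by
      rw [Finset.mul_sum]
      exact Finset.sum_congr rfl fun c _ => map_mul R _ _
    rw [this, hs, mul_zero]
  have h4 : ∑ c, R.character (h * X c) = LinearMap.trace ℂ (Fin n → ℂ) (∑ c, R (h * X c)) := by
    rw [map_sum]; rfl
  rw [h4, h3, map_zero]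

/-- Invariance of `twist` along double cosets. -/
theorem twist_dc {G : Type u} [Group G] (T : Subgroup G) [Fintype T] {α β : T → ℂ}
    (hα : IsClassFunction T α) (hβ : IsClassFunction T β) {a b : G} (ha : a ∈ T) (hb : b ∈ T) (x : G) :
    twist T α β (a * x * b) = twist T α β x := by
  rw [twist_def, twist_def]
  refine Fintype.sum_equiv (MulAut.conj (⟨a, ha⟩ : T)⁻¹).toEquiv _ _ fun t => ?_
  have h1 : (MulAut.conj (⟨a, ha⟩ : T)⁻¹).toEquiv t = (⟨a, ha⟩ : T)⁻¹ * t * (⟨a, ha⟩ : T) := by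
    show (⟨a, ha⟩ : T)⁻¹ * t * ((⟨a, ha⟩ : T)⁻¹)⁻¹ = _
    rw [inv_inv]
  rw [h1]
  have h2 : α ((⟨a, ha⟩ : T)⁻¹ * t * (⟨a, ha⟩ : T)) = α t := by
    have := hα t (⟨a, ha⟩ : T)⁻¹
    rwa [inv_inv] at this
  rw [h2]
  congr 2
  have h3 : (a * x * b)⁻¹ * (t : G) * (a * x * b) = b⁻¹ * (x⁻¹ * (a⁻¹ * t * a) * x) * b := by group
  have h4 : (((⟨a, ha⟩ : T)⁻¹ * t * (⟨a, ha⟩ : T) : T) : G) = a⁻¹ * t * a := rfl
  rw [h3, h4]
  by_cases h5 : x⁻¹ * (a⁻¹ * t * a) * x ∈ T
  · have h6 : b⁻¹ * (x⁻¹ * (a⁻¹ * t * a) * x) * b ∈ T := T.mul_mem (T.mul_mem (T.inv_mem hb) h5) hb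
    rw [ext_apply_mem T _ _ h6, ext_apply_mem T _ _ h5]
    have := hβ ⟨_, h5⟩ (⟨b, hb⟩ : T)⁻¹
    rw [inv_inv] at this
    exact this
  · have h6 : b⁻¹ * (x⁻¹ * (a⁻¹ * t * a) * x) * b ∉ T := by
      intro h6
      apply h5
      have h7 := T.mul_mem (T.mul_mem hb h6) (T.inv_mem hb)
      have h8 : b * (b⁻¹ * (x⁻¹ * (a⁻¹ * t * a) * x) * b) * b⁻¹ = x⁻¹ * (a⁻¹ * t * a) * x := by group
      rwa [h8] at h7
    rw [ext_apply_not_mem T _ _ h6, ext_apply_not_mem T _ _ h5]

/-- Sums along a surjective homomorphism. -/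
theorem sum_surj {G : Type u} {H : Type v} [Group G] [Group H] [Fintype G] [Fintype H] (f : H →* G)
    (hf : Function.Surjective f) (F : G → ℂ) : ∑ t, F (f t) = (Nat.card f.ker : ℂ) * ∑ x, F x := by
  have h := sum_cover f ⊥ (fun x => by
    obtain ⟨t, rfl⟩ := hf x
    exact ⟨t, by simp⟩) F (fun x k hk => by rw [Subgroup.mem_bot.1 hk, mul_one])
  have h1 : (⊥ : Subgroup G).comap f = f.ker := rfl
  rw [h1, Subgroup.card_bot, Nat.cast_one, one_mul] at h
  exact h

/-! ### the first character -/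

section Main

variable {p : ℕ} [hpF : Fact p.Prime] {F : Type v} [Field F] [Fintype F] [CharP F p]

omit [Fintype F] in
theorem units_eq_one (x : Fˣ) (h : x ^ p = 1) : x = 1 := by
  apply Units.ext
  have h1 : (x : F) ^ p = 1 := by
    have := congrArg Units.val h
    simpa using this
  have h2 : ((x : F) - 1) ^ p = 0 := by
    rw [sub_pow_char, h1, one_pow, sub_self]
  have h3 := pow_eq_zero_iff hpF.1.ne_zero |>.1 h2
  simpa using sub_eq_zero.1 h3

omit [Fintype F] hpF in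
theorem X_pow {H : Type u} [Group H] (X : F → H) (hX : ∀ a b, X (a + b) = X a * X b) (c : F) : X c ^ p = 1 := by
  have hX0 : X 0 = 1 := by
    have := hX 0 0
    rwa [add_zero, left_eq_mul] at this
  let f : Multiplicative F →* H := ⟨⟨fun a => X a.toAdd, hX0⟩, fun a b => hX _ _⟩
  have h1 := map_pow f (Multiplicative.ofAdd c) p
  have h2 : (Multiplicative.ofAdd c) ^ p = 1 := by
    rw [← ofAdd_nsmul, nsmul_eq_mul, CharP.cast_eq_zero, zero_mul, ofAdd_zero]
  rw [h2, map_one] at h1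
  exact h1.symm

omit [Fintype F] in
theorem nm_equiv (θ : F ≃+* F) (x : Fˣ) : nm p F (Units.map (θ : F →* F) x) = nm p F x := by
  let _ := ZMod.algebra F p
  apply Units.ext
  let e : F ≃ₐ[ZMod p] F := AlgEquiv.ofRingEquiv (f := θ) fun r => by
    have h1 : (θ : F →+* F).comp (algebraMap (ZMod p) F) = algebraMap (ZMod p) F := Subsingleton.elim _ _
    exact congrArg (fun f : ZMod p →+* F => f r) h1
  exact Algebra.norm_eq_of_algEquiv e (x : F)

theorem nm_surj : Function.Surjective (nm p F) := by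
  let _ := ZMod.algebra F p
  exact FiniteField.unitsMap_norm_surjective (ZMod p) F

/-- `ψ(det)` twists of the cuspidal character are orthogonal. -/
theorem sum_twist_eq_zero (hp : 3 < p) {π : PGL(2, F) → ℂ} (hπ : IsCusp p F π) {ψ : (ZMod p)ˣ →* ℂˣ}
    (hψ : Function.Injective ψ) [Fintype (GL (Fin 2) F)] :
    ∑ g : GL (Fin 2) F, π (ProjGenLinGroup.mk g) * conj (π (ProjGenLinGroup.mk g)) *
      ((ψ (nm p F g.det) : ℂˣ) : ℂ) ^ 2 = 0 := by
  classical
  set μ : Fˣ →* ℂˣ := ψ.comp (nm p F) with hμ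
  set d : GL (Fin 2) F →* ℂˣ := μ.comp GeneralLinearGroup.det with hd
  have hπ0 : IsIrrCharacter (GL (Fin 2) F) (π ∘ (ProjGenLinGroup.mk : GL (Fin 2) F →* PGL(2, F))) :=
    isIrr_comp _ ProjGenLinGroup.mk_surjective hπ.irr
  have h1 := CharactersDeep.ExtUnique.isIrr_mul_hom hπ0 d
  have h2 := CharactersDeep.ExtUnique.isIrr_mul_hom hπ0 d⁻¹
  have hne : (fun g => (π ∘ (ProjGenLinGroup.mk : GL (Fin 2) F →* PGL(2, F))) g * (d g : ℂ)) ≠
      fun g => (π ∘ (ProjGenLinGroup.mk : GL (Fin 2) F →* PGL(2, F))) g * (d⁻¹ g : ℂ) := by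
    intro h
    -- if the values agree then `μ(det)² = 1` on the support of `π`
    have h3 : ∀ g : GL (Fin 2) F, π (ProjGenLinGroup.mk g) ≠ 0 → nm p F g.det ^ 2 = 1 := by
      intro g hg
      have h4 := congrFun h g
      have h5 : (d g : ℂ) = (d⁻¹ g : ℂ) := mul_left_cancel₀ hg h4
      have h6 : d g = (d g)⁻¹ := Units.ext h5
      have h7 : d g ^ 2 = 1 := by
        rw [sq]
        nth_rewrite 2 [h6]
        rw [mul_inv_cancel]
      apply hψ
      rw [map_pow, map_one]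
      exact h7
    -- scalars
    obtain ⟨γ, hγ⟩ := IsCyclic.exists_generator (α := Fˣ)
    have hord : orderOf (nm p F γ) = p - 1 := by
      have h4 : ∀ x : (ZMod p)ˣ, x ∈ Subgroup.zpowers (nm p F γ) := by
        intro x
        obtain ⟨y, rfl⟩ := nm_surj (p := p) (F := F) x
        obtain ⟨k, rfl⟩ := Subgroup.mem_zpowers_iff.1 (hγ y)
        rw [map_zpow]
        exact Subgroup.zpow_mem _ (Subgroup.mem_zpowers _) _
      rw [orderOf_eq_card_of_forall_mem_zpowers h4, Nat.card_eq_fintype_card, ZMod.card_units]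
    have h4 : (nm p F γ) ^ 4 = 1 := by
      have h5 := h3 (GeneralLinearGroup.scalar (Fin 2) γ) (by
        rw [ProjGenLinGroup.mk_scalar]
        exact isIrr_apply_one_ne_zero hπ.irr)
      have h6 : (GeneralLinearGroup.scalar (Fin 2) γ).det = γ ^ 2 := by
        apply Units.ext
        simp [GeneralLinearGroup.scalar]
      rw [h6, map_pow, ← pow_mul] at h5
      exact h5
    have h5 : p - 1 ∣ 4 := hord ▸ orderOf_dvd_of_pow_eq_one h4
    have hp5 : p = 5 := by
      have h6 := Nat.le_of_dvd (by norm_num) h5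
      have h7 : p = 4 ∨ p = 5 := by omega
      rcases h7 with h7 | h7
      · subst h7; exact absurd hpF.1 (by norm_num)
      · exact h7
    obtain ⟨g, hg, hg0⟩ := hπ.ne
    have h6 := h3 g hg0
    obtain ⟨k, hk⟩ := Subgroup.mem_zpowers_iff.1 (hγ g.det)
    rw [← hk, map_zpow, ← zpow_natCast, ← _root_.zpow_mul, ← orderOf_dvd_iff_zpow_eq_one, hord, hp5] at h6
    apply hg
    have h7 : Even k := by
      obtain ⟨m, hm⟩ := h6
      exact ⟨m, by push_cast at hm; omega⟩
    obtain ⟨m, rfl⟩ := h7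
    exact ⟨γ ^ m, by rw [← hk, _root_.zpow_add]⟩
  have h3 := classInner_irr_ne h1 h2 hne
  rw [classInner_def] at h3
  rcases mul_eq_zero.1 h3 with h4 | h4
  · exact absurd h4 (inv_ne_zero card_ne_zero_complex)
  · rw [← h4]
    refine Finset.sum_congr rfl fun g _ => ?_
    have h5 : conj ((d⁻¹ g : ℂˣ) : ℂ) = (d g : ℂ) := by
      have h6 := CharactersDeep.MackeyLinear.mul_conj_hom d⁻¹ g
      have h7 : ((d⁻¹ g : ℂˣ) : ℂ) ≠ 0 := Units.ne_zero _
      apply mul_left_cancel₀ h7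
      rw [h6]
      have h8 : d⁻¹ g * d g = 1 := by simp
      rw [← Units.val_mul, h8, Units.val_one]
    simp only [Function.comp_apply, map_mul, h5]
    show _ * _ * ((d g : ℂˣ) : ℂ) ^ 2 = _
    ring

/-- The twist vanishes outside `P`. -/
theorem twist_cusp (hp : 3 < p) {S : Type u} [Group S] [Finite S] {P : Subgroup S} [Fintype P]
    {ρ : P →* PGL(2, F)} {D : P →* Fˣ} {x₀ : S} (hD : CuspDat p F P ρ D x₀) {π : PGL(2, F) → ℂ}
    (hπ : IsCusp p F π) {ψ : (ZMod p)ˣ →* ℂˣ} (hψ : Function.Injective ψ) {y : S} (hy : y ∉ P) :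
    twist P (fun t => π (ρ t) * ((ψ (nm p F (D t)) : ℂˣ) : ℂ)) (fun t => π (ρ t) * ((ψ (nm p F (D t)) : ℂˣ) : ℂ)) y =
      0 := by
  classical
  have hπc : IsClassFunction PGL(2, F) π := isIrr_isClassFunction hπ.irr
  set τ : P → ℂ := fun t => π (ρ t) * ((ψ (nm p F (D t)) : ℂˣ) : ℂ) with hτ
  have hτc : IsClassFunction P τ := by
    intro g x
    simp only [hτ, map_mul, map_inv]
    rw [hπc]
    congr 2
    rw [mul_comm (ψ (nm p F (D x))), mul_inv_cancel_right]
  rcases hD.tr y hy with ⟨a, ha, b, hb, rfl⟩ | ⟨X, k, hX, hXρ, hXy⟩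
  · rw [twist_dc P hτc hτc ha hb]
    obtain ⟨k₀, hk₀⟩ := hD.opp
    -- the fibre product
    have hGL : Finite (GL (Fin 2) F) := inferInstance
    have : Fintype (GL (Fin 2) F) := Fintype.ofFinite _
    set I := dsub P x₀ with hI
    let K : Subgroup (I × GL (Fin 2) F) :=
      { carrier := {a | ρ (a.1 : P) = ProjGenLinGroup.mk a.2 ∧ D (a.1 : P) = a.2.det}
        one_mem' := by
          constructor
          · show ρ 1 = ProjGenLinGroup.mk 1
            rw [map_one, map_one]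
          · show D 1 = GeneralLinearGroup.det 1
            rw [map_one, map_one]
        mul_mem' := by
          rintro a b ⟨h1, h2⟩ ⟨h3, h4⟩
          constructor
          · show ρ ((a.1 : P) * (b.1 : P)) = ProjGenLinGroup.mk (a.2 * b.2)
            rw [map_mul, map_mul, h1, h3]
          · show D ((a.1 : P) * (b.1 : P)) = GeneralLinearGroup.det (a.2 * b.2)
            rw [map_mul, map_mul, h2, h4]
        inv_mem' := by
          rintro a ⟨h1, h2⟩
          constructor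
          · show ρ ((a.1 : P)⁻¹) = ProjGenLinGroup.mk (a.2⁻¹)
            rw [map_inv, map_inv, h1]
          · show D ((a.1 : P)⁻¹) = GeneralLinearGroup.det (a.2⁻¹)
            rw [map_inv, map_inv, h2] }
    have : Fintype K := Fintype.ofFinite _
    have : Fintype I := Fintype.ofFinite _
    let f₁ : K →* I := (MonoidHom.fst I (GL (Fin 2) F)).comp K.subtype
    let f₂ : K →* GL (Fin 2) F := (MonoidHom.snd I (GL (Fin 2) F)).comp K.subtype
    have hf₁ : Function.Surjective f₁ := by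
      intro t
      obtain ⟨g, h1, h2⟩ := hD.compat (t : P)
      exact ⟨⟨(t, g), h1, h2⟩, rfl⟩
    have hf₂ : Function.Surjective f₂ := by
      intro g
      obtain ⟨t, h0, h1, h2⟩ := hD.opp_surj g
      exact ⟨⟨(⟨t, (mem_dsub P x₀ t).2 h0⟩, g), h1, h2⟩, rfl⟩
    have e1 : twist P τ τ x₀ = ∑ t : I, π (ρ (t : P)) * conj (π (ρ (t : P))) *
        ((ψ (nm p F (D (t : P))) : ℂˣ) : ℂ) ^ 2 := by
      rw [twist_def, sum_eq_sum_subgroup I]
      · refine Finset.sum_congr rfl fun t _ => ?_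
        obtain ⟨h1, h2⟩ := hk₀ (t : P) ((mem_dsub P x₀ t).1 t.2)
        rw [ext_apply_mem P _ _ ((mem_dsub P x₀ t).1 t.2)]
        simp only [hτ]
        rw [h1, h2, hπc, map_mul, map_inv, map_inv]
        have h5 : conj (((ψ (nm p F (D (t : P))))⁻¹ : ℂˣ) : ℂ) = (ψ (nm p F (D (t : P))) : ℂ) := by
          have h6 := CharactersDeep.MackeyLinear.mul_conj_hom ψ⁻¹ (nm p F (D (t : P)))
          have h7 : ((ψ⁻¹ (nm p F (D (t : P))) : ℂˣ) : ℂ) ≠ 0 := Units.ne_zero _
          apply mul_left_cancel₀ h7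
          rw [MonoidHom.inv_apply] at h6 ⊢
          rw [h6]
          simp
        rw [h5]
        ring
      · intro t ht
        rw [mem_dsub] at ht
        rw [ext_apply_not_mem P _ _ ht, map_zero, mul_zero]
    rw [e1]
    have e2 := sum_surj f₁ hf₁ (fun t : I => π (ρ (t : P)) * conj (π (ρ (t : P))) *
        ((ψ (nm p F (D (t : P))) : ℂˣ) : ℂ) ^ 2)
    have e3 := sum_surj f₂ hf₂ (fun g => π (ProjGenLinGroup.mk g) * conj (π (ProjGenLinGroup.mk g)) *
      ((ψ (nm p F g.det) : ℂˣ) : ℂ) ^ 2)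
    rw [sum_twist_eq_zero hp hπ hψ, mul_zero] at e3
    have e4 : ∑ t : K, (fun t : I => π (ρ (t : P)) * conj (π (ρ (t : P))) *
        ((ψ (nm p F (D (t : P))) : ℂˣ) : ℂ) ^ 2) (f₁ t) = ∑ t : K, (fun g => π (ProjGenLinGroup.mk g) *
        conj (π (ProjGenLinGroup.mk g)) * ((ψ (nm p F g.det) : ℂˣ) : ℂ) ^ 2) (f₂ t) := by
      refine Finset.sum_congr rfl fun t _ => ?_
      have h1 : ρ ((f₁ t : I) : P) = ProjGenLinGroup.mk (f₂ t) := t.2.1
      have h2 : D ((f₁ t : I) : P) = (f₂ t).det := t.2.2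
      simp only [h1, h2]
    rw [e4, e3] at e2
    rcases mul_eq_zero.1 e2.symm with h | h
    · exact absurd h (by exact_mod_cast Nat.card_pos.ne')
    · exact h
  · -- a transvection group
    have hD1 : ∀ (t : P), t ^ p = 1 → D t = 1 := by
      intro t ht
      apply units_eq_one (p := p)
      rw [← map_pow, ht, map_one]
    have hX1 : ∀ c, D (X c) = 1 := fun c => hD1 _ (X_pow X hX c)
    have hXy1 : ∀ c, ∀ h : y⁻¹ * (X c : S) * y ∈ P, D ⟨y⁻¹ * (X c : S) * y, h⟩ = 1 := by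
      intro c h
      apply hD1
      apply Subtype.ext
      have h1 : ((X c : S)) ^ p = 1 := by
        have := congrArg Subtype.val (X_pow (p := p) X hX c)
        simpa using this
      show (y⁻¹ * (X c : S) * y) ^ p = 1
      have h2 : y⁻¹ * (X c : S) * y = y⁻¹ * (X c : S) * (y⁻¹)⁻¹ := by rw [inv_inv]
      rw [h2, conj_pow, h1]
      simp
    set Φ : P → ℂ := fun t => τ t * conj (extendByZero P τ (y⁻¹ * t * y)) with hΦ
    have h1 : ∀ c, ∑ t, Φ (t * X c) = ∑ t, Φ t := fun c =>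
      Fintype.sum_equiv (Equiv.mulRight (X c)) _ _ fun t => rfl
    have h2 : (Fintype.card F : ℂ) * ∑ t, Φ t = ∑ t, ∑ c, Φ (t * X c) := by
      rw [Finset.sum_comm, Finset.sum_congr rfl fun c _ => h1 c, Finset.sum_const, Finset.card_univ, nsmul_eq_mul]
    have h3 : ∀ t, ∑ c, Φ (t * X c) = 0 := by
      intro t
      by_cases ht : y⁻¹ * (t : S) * y ∈ P
      · have h4 : ∀ c, Φ (t * X c) = ((ψ (nm p F (D t)) : ℂˣ) : ℂ) * conj (τ ⟨_, ht⟩) *
            π (k⁻¹ * ρ t * k * ProjGenLinGroup.mk (upperRightHom c)) := by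
          intro c
          obtain ⟨hc, hc1⟩ := hXy c
          have h5 : y⁻¹ * ((t * X c : P) : S) * y = (y⁻¹ * (t : S) * y) * (y⁻¹ * (X c : S) * y) := by
            rw [Subgroup.coe_mul]; group
          have h6 : y⁻¹ * ((t * X c : P) : S) * y ∈ P := by rw [h5]; exact P.mul_mem ht hc
          have h7 : (⟨_, h6⟩ : P) = ⟨_, ht⟩ * ⟨_, hc⟩ := Subtype.ext h5
          simp only [hΦ]
          rw [ext_apply_mem P _ _ h6, h7]
          have h8 : τ (⟨_, ht⟩ * ⟨_, hc⟩) = τ ⟨_, ht⟩ := by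
            simp only [hτ, map_mul]
            rw [hc1, hXy1 c hc, map_one, map_one, mul_one, mul_one]
          have h9 : τ (t * X c) = π (k⁻¹ * ρ t * k * ProjGenLinGroup.mk (upperRightHom c)) *
              ((ψ (nm p F (D t)) : ℂˣ) : ℂ) := by
            simp only [hτ, map_mul]
            rw [hXρ, hX1 c, map_one, map_one, mul_one]
            congr 1
            have h10 : ρ t * (k * ProjGenLinGroup.mk (upperRightHom c) * k⁻¹) =
              k * (k⁻¹ * ρ t * k * ProjGenLinGroup.mk (upperRightHom c)) * k⁻¹ := by group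
            rw [h10, hπc]
          rw [h8, h9]
          ring
        rw [Finset.sum_congr rfl fun c _ => h4 c, ← Finset.mul_sum]
        have h5 := sum_coset_eq_zero (isIrr_isCharacter hπ.irr)
          (fun c : F => ProjGenLinGroup.mk (upperRightHom c)) (fun a b => by
            rw [← map_mul, AddChar.map_add_eq_mul]) hπ.sum (k⁻¹ * ρ t * k)
        rw [h5, mul_zero]
      · refine Finset.sum_eq_zero fun c _ => ?_
        obtain ⟨hc, -⟩ := hXy c
        have h5 : y⁻¹ * ((t * X c : P) : S) * y ∉ P := by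
          intro h6
          apply ht
          have h7 := P.mul_mem h6 (P.inv_mem hc)
          have h8 : y⁻¹ * ((t * X c : P) : S) * y * (y⁻¹ * (X c : S) * y)⁻¹ = y⁻¹ * (t : S) * y := by
            rw [Subgroup.coe_mul]; group
          rwa [h8] at h7
        simp only [hΦ]
        rw [ext_apply_not_mem P _ _ h5, map_zero, mul_zero]
    rw [Finset.sum_congr rfl fun t _ => h3 t, Finset.sum_const_zero] at h2
    have h4 : ∑ t, Φ t = 0 := by
      rcases mul_eq_zero.1 h2 with h | h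
      · exact absurd h (by exact_mod_cast Fintype.card_ne_zero)
      · exact h
    rw [twist_def]
    exact h4

/-- **The theorem for families with a cuspidal character.** -/
theorem cusp_good (hp : 3 < p) {S : Type u} [Group S] [Finite S]
    {P : Subgroup S} {ρ : P →* PGL(2, F)} {D : P →* Fˣ} {x₀ : S} (hD : CuspDat p F P ρ D x₀)
    {π : PGL(2, F) → ℂ} (hπ : IsCusp p F π)
    {α : S → ℂ} (hα : IsIrrCharacter S α) {a : ℕ} (ha : α 1 = a) (ha1 : a ≠ 1) (hpa : ¬ p ∣ a) (hle : a ≤ P.index)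
    (hext : ∃ Ψ : MulAut S → ℂ, IsIrrCharacter (MulAut S) Ψ ∧ ∀ s, Ψ (MulAut.conj s) = α s) : Good p S := by
  classical
  have : Fintype S := Fintype.ofFinite S
  have : Fintype P := Fintype.ofFinite P
  obtain ⟨ψ, hψ⟩ := exists_psi p
  have hπc : IsClassFunction PGL(2, F) π := isIrr_isClassFunction hπ.irr
  set τ : P → ℂ := fun t => π (ρ t) * ((ψ (nm p F (D t)) : ℂˣ) : ℂ) with hτ
  have hρ : Function.Surjective ρ := by
    intro g
    obtain ⟨g', rfl⟩ := ProjGenLinGroup.mk_surjective g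
    obtain ⟨t, -, h, -⟩ := hD.opp_surj g'
    exact ⟨t, h⟩
  have hτi : IsIrrCharacter P τ := CharactersDeep.ExtUnique.isIrr_mul_hom (isIrr_comp ρ hρ hπ.irr)
    (ψ.comp ((nm p F).comp D))
  have hβ : IsIrrCharacter S (indFun P τ) := by
    rw [isIrr_iff_classInner_self (S0148.result P _ (isIrr_isCharacter hτi)),
      classInner_indFun_eq P _ _ (isIrr_isClassFunction hτi) fun x hx => twist_cusp hp hD hπ hψ hx]
    exact classInner_irr_self hτi
  obtain ⟨d, hd, hpd, hd1⟩ := hπ.deg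
  have hβ1 : indFun P τ 1 = ((P.index * d : ℕ) : ℂ) := by
    rw [indFun_one]
    simp only [hτ, map_one, hd]
    push_cast
    ring
  have hP0 : P.index ≠ 0 := Subgroup.index_ne_zero_of_finite
  have hP1 : P.index ≠ 1 := by
    rw [Ne, Subgroup.index_eq_one]
    exact hD.ne_top
  have hd0 : d ≠ 0 := by
    rintro rfl
    exact hpd (dvd_zero p)
  have hlt : P.index < P.index * d := by
    have h1 : P.index * 2 ≤ P.index * d := Nat.mul_le_mul_left _ (by omega)
    omega
  refine good_of hα hβ ha hβ1 ha1 (by omega) hpa ?_ hext ?_ ?_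
  · intro h
    rcases hpF.1.dvd_mul.1 h with h | h
    · exact hD.idx h
    · exact hpd h
  · intro h
    have h4 : 0 < a := by
      rcases Nat.eq_zero_or_pos a with h5 | h5
      · exfalso; rw [h5] at hpa; exact hpa (dvd_zero _)
      · exact h5
    have h6 := Nat.le_of_dvd h4 h
    omega
  · intro φ hφ x
    obtain ⟨s, θ, k, hθ, hP⟩ := hD.inv φ hφ
    set f : S →* S := (MulAut.conj s * φ : MulAut S).toMonoidHom with hf
    have hfx : ∀ x, f x = s * φ x * s⁻¹ := fun x => rfl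
    have hfinj : Function.Injective f := (MulAut.conj s * φ : MulAut S).injective
    have hle : P.map f ≤ P := by
      rintro _ ⟨t, ht, rfl⟩
      obtain ⟨h, -⟩ := hP ⟨t, ht⟩
      rw [hfx]
      exact h
    have hPf : P.comap f = P := by
      have h1 : P.map f = P := by
        apply Subgroup.eq_of_le_of_card_ge hle
        rw [Subgroup.card_map_of_injective hfinj]
      ext x
      rw [Subgroup.mem_comap]
      constructor
      · intro hx
        rw [← h1] at hx
        obtain ⟨t, ht, h2⟩ := hx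
        rwa [← hfinj h2]
      · intro hx
        exact hle ⟨x, hx, rfl⟩
    have hτc : ∀ a b : P, τ (a⁻¹ * b * a) = τ b := by
      intro a b
      have := isIrr_isClassFunction hτi b a⁻¹
      rwa [inv_inv] at this
    have hcomp := indFun_comp f P (fun x => ⟨(MulAut.conj s * φ : MulAut S).symm x, by
      have : f ((MulAut.conj s * φ : MulAut S).symm x) = x := (MulAut.conj s * φ : MulAut S).apply_symm_apply x
      rw [this, inv_mul_cancel]
      exact P.one_mem⟩) τ hτc x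
    have hτf : ∀ t : P, ∀ h : f t ∈ P, τ ⟨f t, h⟩ = τ t := by
      intro t h
      obtain ⟨h', hD1, hρ1⟩ := hP t
      obtain ⟨g, hg⟩ := ProjGenLinGroup.mk_surjective (ρ t)
      have h2 := hρ1 g hg.symm
      show π (ρ ⟨s * φ t * s⁻¹, h'⟩) * ((ψ (nm p F (D ⟨s * φ t * s⁻¹, h'⟩)) : ℂˣ) : ℂ) = _
      rw [h2, hD1, nm_equiv, hπc, hπ.inv θ hθ, hg]
    have h1 : indFun (P.comap f) (fun t => τ ⟨f t, t.2⟩) = indFun P τ := by
      funext z
      unfold indFun
      have hc : Nat.card (P.comap f) = Nat.card P := by rw [hPf]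
      rw [hc]
      congr 1
      refine Finset.sum_congr rfl fun y _ => ?_
      by_cases h2 : y⁻¹ * z * y ∈ P
      · have h3 : y⁻¹ * z * y ∈ P.comap f := by rw [hPf]; exact h2
        rw [ext_apply_mem _ _ _ h3, ext_apply_mem _ _ _ h2]
        exact hτf ⟨_, h2⟩ h3
      · have h3 : y⁻¹ * z * y ∉ P.comap f := by rw [hPf]; exact h2
        rw [ext_apply_not_mem _ _ _ h3, ext_apply_not_mem _ _ _ h2]
    rw [h1] at hcomp
    rw [← hcomp, hfx]
    exact (isIrr_isClassFunction hβ (φ x) s).symm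

end Main

end Cfsg.Agent.H687
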