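import Mathlib
import Cfsg.Agent.H687.Assemble
import Cfsg.Agent.H877.PolORow
import Cfsg.Agent.H877.PolSpRow
import Cfsg.Agent.H650.GoodPSU4
import Cfsg.Agent.H650.CuspPGL

/-!
# S4834: the families `PSp`, `PSU 4`, `POmega` in the defining characteristic (helper687)
-/

set_option autoImplicit false

namespace Cfsg.Agent.H687

open Cfsg Matrix MatrixGroups

theorem exists_isCusp {p : ℕ} [hp : Fact p.Prime] (hp3 : 3 < p) (F : Type) [Field F] [Finite F] [CharP F p] :
    letI := Fintype.ofFinite F; ∃ π : PGL(2, F) → ℂ, IsCusp p F π := by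
  have hF := Fintype.ofFinite F
  obtain ⟨π, h1, h2, h3, h4, h5⟩ := H650.CuspPGL.exists_cusp hp3 F
  refine ⟨π, ?_⟩
  convert (⟨h1, h2, h3, h4, h5⟩ : IsCusp p F π)

/-- **The remaining families.** -/
theorem miss {p : ℕ} [hp : Fact p.Prime] (hp3 : 3 < p) : Miss p where
  psp F _ _ _ _ hm := H877.Pol.good_psp hm hp3 (exists_isCusp hp3 F)
  psu4 _ _ _ _ _ hF := H650.GoodPSU4.good_psu4 hp3 hF
  po_odd F _ _ _ _ hm := H877.Pol.good_po_odd hm hp3 (exists_isCusp hp3 F)
  po_plus F _ _ _ _ hm := H877.Pol.good_po_plus hm hp3 (exists_isCusp hp3 F)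
  po_minus F _ _ _ _ _ _ hm hab := H877.Pol.good_po_minus hm hab hp3 (exists_isCusp hp3 F)

end Cfsg.Agent.H687
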