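import Cfsg.Agent.H687.Scheme
import Mathlib.NumberTheory.Zsqrtd.Basic

/-!
# Irreducible constituents of a permutation character from a certificate (helper687)

`φ : G →* Equiv.Perm ℕ` acts transitively on `{0, …, n - 1}`, `H` is the stabilizer of `0`, with `r` orbits given by the
bit masks `U i`, representatives `y i`; `v k` moves `y k` to `0`.

* `exists_chars` : intersection numbers and `r` idempotents with coefficients in `ℤ√d` (over a denominator `D`) give the
  `r` irreducible constituents of the permutation character, with their degrees.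
-/

set_option autoImplicit false
set_option linter.unusedSectionVars false

namespace Cfsg.Agent.H687.NetScheme

open Cfsg Cfsg.Agent.Characters.Core Cfsg.Agent.H687.Scheme

universe u

/-- The action on `Fin n`. -/
@[reducible] def finAct {G : Type u} [Group G] (φ : G →* Equiv.Perm ℕ) (n : ℕ) (h : ∀ g i, i < n → φ g i < n) :
    MulAction G (Fin n) where
  smul g i := ⟨φ g i, h g i i.2⟩
  one_smul i := Fin.ext (by show φ 1 i = i; rw [map_one]; rfl)
  mul_smul g g' i := Fin.ext (by show φ (g * g') i = φ g (φ g' i); rw [map_mul]; rfl)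

/-- The suborbits. -/
structure Masks {G : Type u} [Group G] (φ : G →* Equiv.Perm ℕ) (H : Subgroup G) (n : ℕ) {r : ℕ} (U y : Fin r → ℕ) :
    Prop where
  pos : 0 < n
  bd : ∀ g i, i < n → φ g i < n
  tr : ∀ p < n, ∃ g, φ g 0 = p
  lt : ∀ i p, (U i).testBit p = true → p < n
  cover : ∀ p < n, ∃ i, (U i).testBit p = true
  disj : ∀ i j p, (U i).testBit p = true → (U j).testBit p = true → i = j
  orb : ∀ i p, (U i).testBit p = true ↔ ∃ h ∈ H, φ h (y i) = p
  stab : ∀ g, φ g 0 = 0 ↔ g ∈ H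

section

variable {G : Type u} [Group G] {φ : G →* Equiv.Perm ℕ} {H : Subgroup G} {n r : ℕ} {U y : Fin r → ℕ}

/-- The index of the suborbit. -/
noncomputable def ind (M : Masks φ H n U y) (z : Fin n) : Fin r := (M.cover z z.2).choose

theorem ind_iff (M : Masks φ H n U y) (z : Fin n) (i : Fin r) : ind M z = i ↔ (U i).testBit z = true := by
  have h := (M.cover z z.2).choose_spec
  constructor
  · intro hi
    rw [← hi]
    exact h
  · intro hi
    exact M.disj _ _ _ h hi

theorem Masks.y_lt (M : Masks φ H n U y) (i : Fin r) : y i < n :=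
  M.lt i _ ((M.orb i _).2 ⟨1, H.one_mem, by rw [map_one]; rfl⟩)

/-- **The constituents of the permutation character.** -/
theorem exists_chars [Finite G] (M : Masks φ H n U y) {v : Fin r → G} (hv : ∀ k, φ (v k) (y k) = 0)
    {pr : Fin r → Fin r} (hpr : ∀ k, (U (pr k)).testBit (φ (v k) 0) = true) (hinj : Function.Injective pr)
    {p : Fin r → Fin r → Fin r → ℕ}
    (hcnt : ∀ i j k, Nat.card {z : Fin n // (U i).testBit z = true ∧ (U (pr j)).testBit (φ (v k) z) = true} = p i j k)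
    {d : ℤ} (w : ℂ) (hw : w * w = (d : ℂ)) {e : Fin r → Fin r → ℤ√d} {D : ℤ} (hD : D ≠ 0)
    (he : ∀ s k, ∑ i, ∑ j, e s i * e s j * (p i j k : ℤ√d) = (D : ℤ√d) * e s k) {k₀ : Fin r}
    (hk₀ : (U k₀).testBit 0 = true) (hsum : ∀ k, ∑ s, e s k = if k = k₀ then (D : ℤ√d) else 0) {deg : Fin r → ℕ}
    (hdeg : ∀ s, (n : ℤ√d) * e s k₀ = (D : ℤ√d) * (deg s : ℤ√d)) (hdeg0 : ∀ s, deg s ≠ 0) :
    ∃ χ : Fin r → G → ℂ, (∀ s, IsIrrCharacter G (χ s)) ∧ (∀ s t, s ≠ t → χ s ≠ χ t) ∧ (∀ s, χ s 1 = (deg s : ℂ)) ∧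
      ∀ g, ∑ s, χ s g = (Nat.card {i : Fin n // φ g i = i} : ℂ) := by
  classical
  let _ : MulAction G (Fin n) := finAct φ n M.bd
  have hsm : ∀ (g : G) (i : Fin n), ((g • i : Fin n) : ℕ) = φ g i := fun _ _ => rfl
  have : NeZero n := ⟨M.pos.ne'⟩
  have h0 : ((0 : Fin n) : ℕ) = 0 := rfl
  have hst0 : ∀ g : G, g • (0 : Fin n) = 0 ↔ g ∈ H := by
    intro g
    rw [← M.stab, Fin.ext_iff, hsm, h0]
  have htr : ∀ x : Fin n, ∃ g : G, g • (0 : Fin n) = x := by
    intro x
    obtain ⟨g, hg⟩ := M.tr x x.2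
    exact ⟨g, Fin.ext (by rw [hsm, h0, hg])⟩
  have hmem : ∀ g : G, g ∈ H → ∀ i q, (U i).testBit q = true → (U i).testBit (φ g q) = true := by
    intro g hg i q hq
    obtain ⟨x, hx, hxq⟩ := (M.orb i q).1 hq
    exact (M.orb i _).2 ⟨g * x, H.mul_mem hg hx, by rw [map_mul, Equiv.Perm.mul_apply, hxq]⟩
  have hst : ∀ g : G, g • (0 : Fin n) = 0 → ∀ z, ind M (g • z) = ind M z := by
    intro g hg z
    rw [ind_iff, hsm]
    exact hmem g ((hst0 g).1 hg) _ _ ((ind_iff M z _).1 rfl)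
  have hrep : ∀ x : Fin n, ∃ g : G, g • (0 : Fin n) = 0 ∧ g • (⟨y (ind M x), M.y_lt _⟩ : Fin n) = x := by
    intro x
    obtain ⟨g, hg, hgx⟩ := (M.orb _ _).1 ((ind_iff M x _).1 rfl)
    exact ⟨g, (hst0 g).2 hg, Fin.ext (by rw [hsm]; exact hgx)⟩
  have hS : Sch G (mkLab htr (ind M)) (0 : Fin n) (fun k => (⟨y k, M.y_lt k⟩ : Fin n)) p := by
    refine sch_of htr hst (w := fun k => (v k)⁻¹) hrep (fun k => ?_) (pr := pr) (fun k => ?_) hinj (fun i j k => ?_)
    · rw [inv_smul_eq_iff]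
      exact Fin.ext (by rw [hsm, h0]; exact (hv k).symm)
    · rw [inv_inv, ind_iff, hsm, h0]
      exact hpr k
    · rw [← hcnt i j k]
      refine Nat.card_congr (Equiv.subtypeEquivRight fun z => ?_)
      rw [inv_inv, ind_iff, ind_iff, hsm]
  have hk : mkLab htr (ind M) 0 0 = k₀ := by
    rw [mkLab_eq htr hst (one_smul G (0 : Fin n)), inv_one, one_smul, ind_iff]
    exact hk₀
  -- the ring homomorphism
  obtain ⟨f, hf⟩ : ∃ f : ℤ√d →+* ℂ, f = Zsqrtd.lift ⟨w, hw⟩ := ⟨_, rfl⟩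
  have hDC : (D : ℂ) ≠ 0 := by exact_mod_cast hD
  obtain ⟨c, hc⟩ : ∃ c : Fin r → Fin r → ℂ, c = fun s i => f (e s i) / D := ⟨_, rfl⟩
  have hcc : ∀ s i, c s i = f (e s i) / D := fun s i => by rw [hc]
  have h1 : ∀ s k, ∑ i, ∑ j, c s i * c s j * p i j k = c s k := by
    intro s k
    have h2 := congrArg f (he s k)
    rw [map_sum, map_mul, map_intCast] at h2
    have h3 : ∑ i, ∑ j, c s i * c s j * p i j k = (∑ i, f (∑ j, e s i * e s j * (p i j k : ℤ√d))) / (D * D) := by
      rw [Finset.sum_div]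
      refine Finset.sum_congr rfl fun i _ => ?_
      rw [map_sum, Finset.sum_div]
      refine Finset.sum_congr rfl fun j _ => ?_
      rw [hcc, hcc, map_mul, map_mul, map_natCast]
      field_simp
    rw [h3, h2, hcc]
    field_simp
  have h2 : ∀ k, ∑ s, c s k = if k = mkLab htr (ind M) 0 0 then 1 else 0 := by
    intro k
    have h3 := congrArg f (hsum k)
    rw [map_sum] at h3
    rw [hk, Finset.sum_congr rfl fun s _ => hcc s k, ← Finset.sum_div, h3]
    split_ifs
    · rw [map_intCast, div_self hDC]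
    · rw [map_zero, zero_div]
  have h3 : ∀ s, (n : ℂ) * c s k₀ = deg s := by
    intro s
    have h4 := congrArg f (hdeg s)
    rw [map_mul, map_mul, map_natCast, map_natCast, map_intCast] at h4
    rw [hcc, ← mul_div_assoc, h4, mul_div_cancel_left₀ _ hDC]
  have h4 : ∀ s, c s (mkLab htr (ind M) 0 0) ≠ 0 := by
    intro s h5
    rw [hk] at h5
    have h6 := h3 s
    rw [h5, mul_zero] at h6
    exact hdeg0 s (by exact_mod_cast h6.symm)
  obtain ⟨h5, h6⟩ := hS.irr h1 h2 h4
  refine ⟨fun s => chi G (mkLab htr (ind M)) (c s), h5, h6, fun s => ?_, fun g => ?_⟩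
  · show chi G (mkLab htr (ind M)) (c s) 1 = _
    rw [hS.chi_one, hk, Nat.card_eq_fintype_card, Fintype.card_fin, h3]
  · show ∑ s, chi G (mkLab htr (ind M)) (c s) g = _
    rw [hS.sum_chi h2]
    congr 1
    refine Nat.card_congr (Equiv.subtypeEquivRight fun i => ?_)
    rw [MulAction.mem_fixedBy, Fin.ext_iff, hsm]

end

/-! ### Counting -/

/-- Cardinality of a set of points of `Fin n` given by a mask. -/
theorem card_fin {n U m : ℕ} (hlt : ∀ p, U.testBit p = true → p < n)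
    (h : {p : ℕ | U.testBit p = true}.ncard = m) : Nat.card {z : Fin n // U.testBit z = true} = m := by
  rw [← h, ← Nat.card_coe_set_eq]
  refine Nat.card_congr ⟨fun z => ⟨z.1, z.2⟩, fun z => ⟨⟨z.1, hlt _ z.2⟩, z.2⟩, fun _ => rfl, fun _ => rfl⟩

end Cfsg.Agent.H687.NetScheme
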