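import Cfsg.Agent.S0157
import Cfsg.Agent.H651.StarTrace
import Cfsg.Agent.Blocks.Knorr

/-!
# Characters from association schemes (helper687)

A finite group `G` acting transitively on a finite set `X`, `r` orbits on pairs with labels `lab : X → X → Fin r` and
intersection numbers `p i j k`.

* `Sch.conv` : convolution of functions of the label;
* `Sch.isChar` : an idempotent of the intersection algebra gives a character;
* `Sch.irr` : `r` idempotents with sum the identity give `r` irreducible characters, with sum the permutation character;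
* `sch_of` : construction from the stabilizer of a point.
-/

set_option autoImplicit false
set_option linter.unusedSectionVars false

namespace Cfsg.Agent.H687.Scheme

open Cfsg Cfsg.Agent.Characters.Core
open scoped ComplexConjugate

universe u v

/-- Labelled orbitals with intersection numbers. -/
structure Sch (G : Type u) {X : Type v} [Group G] [MulAction G X] {r : ℕ} (lab : X → X → Fin r) (x₀ : X)
    (y : Fin r → X) (p : Fin r → Fin r → Fin r → ℕ) : Prop where
  inv : ∀ (g : G) (x z : X), lab (g • x) (g • z) = lab x z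
  rep : ∀ x z : X, ∃ g : G, g • x₀ = x ∧ g • y (lab x z) = z
  cnt : ∀ i j k : Fin r, Nat.card {z : X // lab x₀ z = i ∧ lab z (y k) = j} = p i j k

section

variable {G : Type u} {X : Type v} [Group G] [MulAction G X] {r : ℕ} {lab : X → X → Fin r} {x₀ : X} {y : Fin r → X}
  {p : Fin r → Fin r → Fin r → ℕ}

theorem Sch.diag (h : Sch G lab x₀ y p) (x : X) : lab x x = lab x₀ x₀ := by
  obtain ⟨g, hg, -⟩ := h.rep x x
  rw [← hg, h.inv]

theorem Sch.eq_iff (h : Sch G lab x₀ y p) (x z : X) : lab x z = lab x₀ x₀ ↔ x = z := by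
  constructor
  · intro hk
    obtain ⟨g, hg, hg'⟩ := h.rep x z
    obtain ⟨k, hk1, hk2⟩ := h.rep x₀ x₀
    rw [← hk] at hk2
    have h1 : y (lab x z) = x₀ := by
      have h2 : k • y (lab x z) = k • x₀ := by rw [hk2, hk1]
      exact MulAction.injective k h2
    rw [h1] at hg'
    rw [← hg, ← hg']
  · rintro rfl
    exact h.diag x

theorem sum_labels [Fintype X] (a b : X → Fin r) (F : Fin r → Fin r → ℂ) :
    ∑ t, F (a t) (b t) = ∑ i, ∑ j, F i j * (Nat.card {t : X // a t = i ∧ b t = j} : ℂ) := by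
  classical
  have h1 : ∀ t, F (a t) (b t) = ∑ i, ∑ j, if (a t = i ∧ b t = j) then F i j else 0 := by
    intro t
    rw [Finset.sum_eq_single (a t)]
    · rw [Finset.sum_eq_single (b t)]
      · rw [if_pos ⟨rfl, rfl⟩]
      · intro j _ hj
        rw [if_neg fun h => hj h.2.symm]
      · intro h; exact absurd (Finset.mem_univ _) h
    · intro i _ hi
      exact Finset.sum_eq_zero fun j _ => if_neg fun h => hi h.1.symm
    · intro h; exact absurd (Finset.mem_univ _) h
  rw [Finset.sum_congr rfl fun t _ => h1 t, Finset.sum_comm]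
  refine Finset.sum_congr rfl fun i _ => ?_
  rw [Finset.sum_comm]
  refine Finset.sum_congr rfl fun j _ => ?_
  rw [Finset.sum_ite, Finset.sum_const_zero, add_zero, Finset.sum_const, nsmul_eq_mul, mul_comm,
    Nat.card_eq_fintype_card, Fintype.card_subtype]

/-- **Convolution.** -/
theorem Sch.conv [Fintype X] (h : Sch G lab x₀ y p) (c d : Fin r → ℂ) (x z : X) :
    ∑ t, c (lab x t) * d (lab t z) = ∑ i, ∑ j, c i * d j * p i j (lab x z) := by
  obtain ⟨g, hg, hgz⟩ := h.rep x z
  generalize lab x z = k at hgz ⊢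
  rw [← hg, ← hgz]
  have h1 : ∑ t, c (lab (g • x₀) t) * d (lab t (g • y k)) = ∑ t, c (lab x₀ t) * d (lab t (y k)) := by
    refine (Fintype.sum_equiv (MulAction.toPerm g) _ _ fun t => ?_).symm
    show _ = c (lab (g • x₀) (g • t)) * d (lab (g • t) (g • y k))
    rw [h.inv, h.inv]
  rw [h1, sum_labels (fun t => lab x₀ t) (fun t => lab t (y k)) (fun i j => c i * d j)]
  refine Finset.sum_congr rfl fun i _ => Finset.sum_congr rfl fun j _ => ?_
  rw [h.cnt]

/-- The class function of a function of the label. -/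
noncomputable def chi (G : Type u) {X : Type v} [Group G] [MulAction G X] [Fintype X] {r : ℕ} (lab : X → X → Fin r)
    (c : Fin r → ℂ) : G → ℂ := fun g => ∑ x, c (lab x (g • x))

/-- **An idempotent gives a character.** -/
theorem Sch.isChar [Fintype X] (h : Sch G lab x₀ y p) {c : Fin r → ℂ}
    (hc : ∀ k, ∑ i, ∑ j, c i * c j * p i j k = c k) : IsCharacter G (chi G lab c) := by
  classical
  exact Cfsg.Agent.H651.isCharacter_sum_perm (MulAction.toPermHom G X) (fun a b => c (lab a b))
    (fun a b => by rw [h.conv, hc]) (fun g a b => by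
      show c (lab (g • a) (g • b)) = c (lab a b)
      rw [h.inv])

theorem Sch.chi_one [Fintype X] (h : Sch G lab x₀ y p) (c : Fin r → ℂ) :
    chi G lab c 1 = (Nat.card X : ℂ) * c (lab x₀ x₀) := by
  unfold chi
  rw [Finset.sum_congr rfl fun x _ => show c (lab x ((1 : G) • x)) = c (lab x₀ x₀) by rw [one_smul, h.diag],
    Finset.sum_const, Finset.card_univ, nsmul_eq_mul, Nat.card_eq_fintype_card]

/-- The number of orbits on pairs. -/
theorem Sch.card_orbits (h : Sch G lab x₀ y p) : Nat.card (Quotient (MulAction.orbitRel G (X × X))) ≤ r := by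
  have h1 : Function.Injective (Quotient.lift (s := MulAction.orbitRel G (X × X)) (fun q : X × X => lab q.1 q.2) (by
      rintro ⟨a, b⟩ ⟨c, d⟩ ⟨g, hg⟩
      have e1 : g • c = a := congrArg Prod.fst hg
      have e2 : g • d = b := congrArg Prod.snd hg
      show lab a b = lab c d
      rw [← e1, ← e2, h.inv])) := by
    intro q q'
    induction q using Quotient.inductionOn with | _ a =>
    induction q' using Quotient.inductionOn with | _ b =>
    intro hq
    have hq' : lab a.1 a.2 = lab b.1 b.2 := hq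
    obtain ⟨g, hg1, hg2⟩ := h.rep a.1 a.2
    obtain ⟨g', hg1', hg2'⟩ := h.rep b.1 b.2
    refine Quotient.sound ⟨g * g'⁻¹, ?_⟩
    refine Prod.ext ?_ ?_
    · show (g * g'⁻¹) • b.1 = a.1
      rw [← hg1', smul_smul, inv_mul_cancel_right, hg1]
    · show (g * g'⁻¹) • b.2 = a.2
      rw [← hg2', smul_smul, inv_mul_cancel_right, ← hq', hg2]
  have h2 := Nat.card_le_card_of_injective _ h1
  rwa [Nat.card_eq_fintype_card (α := Fin r), Fintype.card_fin] at h2

/-- The permutation character. -/
theorem Sch.sum_chi [Fintype X] (h : Sch G lab x₀ y p) {c : Fin r → Fin r → ℂ}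
    (hsum : ∀ k, ∑ s, c s k = if k = lab x₀ x₀ then 1 else 0)
    (g : G) : ∑ s, chi G lab (c s) g = (Nat.card (MulAction.fixedBy X g) : ℂ) := by
  classical
  unfold chi
  have h1 : ∀ x : X, ∑ s, c s (lab x (g • x)) = if x = g • x then 1 else 0 := by
    intro x
    rw [hsum]
    by_cases hx : x = g • x
    · rw [if_pos hx, if_pos ((h.eq_iff _ _).2 hx)]
    · rw [if_neg hx, if_neg fun h2 => hx ((h.eq_iff _ _).1 h2)]
  rw [Finset.sum_comm, Finset.sum_congr rfl fun x _ => h1 x, Finset.sum_boole, Nat.card_eq_fintype_card]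
  congr 1
  rw [← Fintype.card_subtype]
  refine Fintype.card_congr (Equiv.subtypeEquivRight fun x => ?_)
  rw [MulAction.mem_fixedBy]
  exact eq_comm

theorem norm_perm [Fintype G] [Finite X] :
    classInner (fun g : G => (Nat.card (MulAction.fixedBy X g) : ℂ)) (fun g : G => (Nat.card (MulAction.fixedBy X g) : ℂ))
      = (Nat.card (Quotient (MulAction.orbitRel G (X × X))) : ℂ) := by
  rw [← Cfsg.Agent.S0157.avg_fixedBy (G := G) (X × X)]
  simp only [classInner, Cfsg.Agent.S0157.card_fixedBy_prod, Nat.cast_mul, Complex.conj_natCast]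

/-- `r` nonzero characters with norm of the sum at most `r` are irreducible and different. -/
theorem irr_of_norm [Fintype G] {χ : Fin r → G → ℂ} (hχ : ∀ s, IsCharacter G (χ s)) (h0 : ∀ s, χ s ≠ 0) {m : ℕ}
    (hm : m ≤ r) (hnorm : classInner (∑ s, χ s) (∑ s, χ s) = (m : ℂ)) :
    (∀ s, IsIrrCharacter G (χ s)) ∧ ∀ s t, s ≠ t → χ s ≠ χ t := by
  classical
  have h1 : ∀ s t, ∃ n : ℕ, classInner (χ s) (χ t) = n := fun s t => classInner_isNat (hχ s) (hχ t)
  choose n hn using h1
  have h2 : ∀ s, 1 ≤ n s s := by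
    intro s
    by_contra hcon
    have h3 : n s s = 0 := by omega
    exact h0 s (classInner_self_eq_zero (by rw [hn, h3, Nat.cast_zero]))
  have h3 : ∑ s, ∑ t, n s t = m := by
    have : ((∑ s, ∑ t, n s t : ℕ) : ℂ) = m := by
      rw [← hnorm, classInner_sum_left]
      push_cast
      refine Finset.sum_congr rfl fun s _ => ?_
      rw [classInner_sum_right]
      exact Finset.sum_congr rfl fun t _ => (hn s t).symm
    exact_mod_cast this
  have h4 : ∀ s, n s s ≤ ∑ t, n s t := fun s => Finset.single_le_sum (f := fun t => n s t) (fun _ _ => Nat.zero_le _)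
    (Finset.mem_univ s)
  have h5 : ∀ s, ∑ t, n s t = 1 := by
    intro s
    by_contra hcon
    have h6 : 1 < ∑ t, n s t := lt_of_le_of_ne ((h2 s).trans (h4 s)) (Ne.symm hcon)
    have h7 : ∑ _s : Fin r, 1 < ∑ s, ∑ t, n s t :=
      Finset.sum_lt_sum (fun i _ => (h2 i).trans (h4 i)) ⟨s, Finset.mem_univ s, h6⟩
    rw [Finset.sum_const, Finset.card_univ, Fintype.card_fin, smul_eq_mul, mul_one, h3] at h7
    omega
  have h6 : ∀ s, n s s = 1 := fun s => le_antisymm ((h4 s).trans (h5 s).le) (h2 s)
  have h7 : ∀ s, IsIrrCharacter G (χ s) := fun s => isIrr_of_classInner_self (hχ s) (by rw [hn, h6, Nat.cast_one])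
  refine ⟨h7, fun s t hst heq => ?_⟩
  have h8 : n s t = 1 := by
    have : ((n s t : ℕ) : ℂ) = 1 := by rw [← hn, ← heq, hn, h6, Nat.cast_one]
    exact_mod_cast this
  have h9 : n s s + n s t ≤ ∑ t, n s t := by
    rw [← Finset.sum_pair (f := fun t => n s t) hst]
    exact Finset.sum_le_sum_of_subset (Finset.subset_univ _)
  rw [h6, h8, h5] at h9
  omega

/-- **The irreducible constituents.** -/
theorem Sch.irr [Finite G] [Fintype X] (h : Sch G lab x₀ y p) {c : Fin r → Fin r → ℂ}
    (hc : ∀ s k, ∑ i, ∑ j, c s i * c s j * p i j k = c s k)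
    (hsum : ∀ k, ∑ s, c s k = if k = lab x₀ x₀ then 1 else 0) (h0 : ∀ s, c s (lab x₀ x₀) ≠ 0) :
    (∀ s, IsIrrCharacter G (chi G lab (c s))) ∧ ∀ s t, s ≠ t → chi G lab (c s) ≠ chi G lab (c t) := by
  have := Fintype.ofFinite G
  refine irr_of_norm (fun s => h.isChar (hc s)) (fun s hs => ?_) h.card_orbits ?_
  · have h1 := congrFun hs 1
    rw [h.chi_one] at h1
    rcases mul_eq_zero.1 h1 with h2 | h2
    · have h3 : Nat.card X = 0 := by exact_mod_cast h2
      rw [Nat.card_eq_fintype_card, Fintype.card_eq_zero_iff] at h3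
      exact h3.elim x₀
    · exact h0 s h2
  · have h1 : ∑ s, chi G lab (c s) = fun g : G => (Nat.card (MulAction.fixedBy X g) : ℂ) := by
      funext g
      rw [Finset.sum_apply]
      exact h.sum_chi hsum g
    rw [h1]
    exact norm_perm

/-- An irreducible constituent is one of the given ones. -/
theorem mem_of_inner [Fintype G] {χ : Fin r → G → ℂ} (hχ : ∀ s, IsIrrCharacter G (χ s)) {ψ : G → ℂ}
    (hψ : IsIrrCharacter G ψ) (h : classInner (∑ s, χ s) ψ ≠ 0) : ∃ s, ψ = χ s := by
  by_contra hcon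
  push Not at hcon
  apply h
  rw [classInner_sum_left]
  exact Finset.sum_eq_zero fun s _ => classInner_irr_ne (hχ s) hψ (hcon s).symm

end

/-! ### Construction from the stabilizer of a point -/

section

variable {G : Type u} {X : Type v} [Group G] [MulAction G X] {r : ℕ}

/-- The label from a function on the orbits of the stabilizer. -/
noncomputable def mkLab {x₀ : X} (htr : ∀ x : X, ∃ g : G, g • x₀ = x) (ind : X → Fin r) (x z : X) : Fin r :=
  ind ((htr x).choose⁻¹ • z)

variable {x₀ : X} {ind : X → Fin r}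

theorem mkLab_eq (htr : ∀ x : X, ∃ g : G, g • x₀ = x) (hst : ∀ g : G, g • x₀ = x₀ → ∀ z, ind (g • z) = ind z) {x : X}
    {g : G} (hg : g • x₀ = x) (z : X) : mkLab htr ind x z = ind (g⁻¹ • z) := by
  unfold mkLab
  have h1 : (htr x).choose • x₀ = x := (htr x).choose_spec
  generalize (htr x).choose = k at h1 ⊢
  have h2 : (g⁻¹ * k) • x₀ = x₀ := by rw [mul_smul, h1, ← hg, inv_smul_smul]
  rw [← hst _ h2 (k⁻¹ • z), smul_smul, mul_assoc, mul_inv_cancel, mul_one]

/-- **The scheme of a transitive action.** -/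
theorem sch_of (htr : ∀ x : X, ∃ g : G, g • x₀ = x) (hst : ∀ g : G, g • x₀ = x₀ → ∀ z, ind (g • z) = ind z)
    {y : Fin r → X} (hrep : ∀ x, ∃ g : G, g • x₀ = x₀ ∧ g • y (ind x) = x) {w : Fin r → G}
    (hw : ∀ k, w k • x₀ = y k) {pr : Fin r → Fin r} (hpr : ∀ k, ind ((w k)⁻¹ • x₀) = pr k)
    (hinj : Function.Injective pr) {p : Fin r → Fin r → Fin r → ℕ}
    (hcnt : ∀ i j k, Nat.card {z : X // ind z = i ∧ ind ((w k)⁻¹ • z) = pr j} = p i j k) :
    Sch G (mkLab htr ind) x₀ y p := by
  have e0 : ∀ z, mkLab htr ind x₀ z = ind z := fun z => by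
    rw [mkLab_eq htr hst (one_smul G x₀), inv_one, one_smul]
  have hinv : ∀ (g : G) (x z : X), mkLab htr ind (g • x) (g • z) = mkLab htr ind x z := by
    intro g x z
    obtain ⟨k, hk⟩ := htr x
    rw [mkLab_eq htr hst (show (g * k) • x₀ = g • x by rw [mul_smul, hk]), mkLab_eq htr hst hk]
    congr 1
    rw [smul_smul]
    congr 1
    group
  have hrep' : ∀ x z : X, ∃ g : G, g • x₀ = x ∧ g • y (mkLab htr ind x z) = z := by
    intro x z
    obtain ⟨k, hk⟩ := htr x
    rw [mkLab_eq htr hst hk]
    obtain ⟨g, hg, hg'⟩ := hrep (k⁻¹ • z)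
    refine ⟨k * g, by rw [mul_smul, hg, hk], ?_⟩
    rw [mul_smul, hg', smul_inv_smul]
  have hpair : ∀ x z : X, mkLab htr ind z x = pr (mkLab htr ind x z) := by
    intro x z
    obtain ⟨g, hg, hg'⟩ := hrep' x z
    generalize hk : mkLab htr ind x z = k at hg' ⊢
    rw [← hg, ← hg', hinv, mkLab_eq htr hst (hw k), hpr]
  refine ⟨hinv, hrep', fun i j k => ?_⟩
  rw [← hcnt i j k]
  refine Nat.card_congr (Equiv.subtypeEquivRight fun z => ?_)
  rw [e0, ← mkLab_eq htr hst (hw k) z, hpair z (y k), hinj.eq_iff]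

end

/-! ### Invariance under automorphisms -/

section

variable {G : Type u} [Group G] [Finite G] {r : ℕ}

/-- A constituent of a sum of irreducible characters whose degree is unique is invariant under the automorphisms fixing
the sum. -/
theorem inv_of_unique {χ : Fin r → G → ℂ} (hχ : ∀ s, IsIrrCharacter G (χ s))
    {σ : MulAut G} (hσ : ∀ g, (∑ t, χ t) (σ g) = (∑ t, χ t) g) {s : Fin r}
    (hs : ∀ t, t ≠ s → χ t 1 ≠ χ s 1) (g : G) : χ s (σ g) = χ s g := by
  classical
  have := Fintype.ofFinite G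
  have h1 : IsIrrCharacter G (χ s ∘ σ) := isIrr_comp σ.toMonoidHom σ.surjective (hχ s)
  have h2 : classInner (∑ t, χ t) (χ s ∘ σ) = classInner (∑ t, χ t) (χ s) := by
    unfold classInner
    congr 1
    refine Fintype.sum_equiv σ.toEquiv _ _ fun x => ?_
    rw [← hσ x]
    rfl
  have h3 : classInner (∑ t, χ t) (χ s) ≠ 0 := by
    rw [classInner_sum_left]
    have h4 : ∀ t, ∃ n : ℕ, classInner (χ t) (χ s) = n := fun t =>
      classInner_isNat (isIrr_isCharacter (hχ t)) (isIrr_isCharacter (hχ s))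
    choose n hn using h4
    rw [Finset.sum_congr rfl fun t _ => hn t, ← Nat.cast_sum]
    have h5 : n s = 1 := by
      have : ((n s : ℕ) : ℂ) = 1 := by rw [← hn, classInner_irr_self (hχ s)]
      exact_mod_cast this
    have h6 : n s ≤ ∑ t, n t := Finset.single_le_sum (f := n) (fun _ _ => Nat.zero_le _) (Finset.mem_univ s)
    intro h7
    have : ∑ t, n t = 0 := by exact_mod_cast h7
    omega
  rw [← h2] at h3
  obtain ⟨t, ht⟩ := mem_of_inner hχ h1 h3
  have h4 : t = s := by
    by_contra hne
    apply hs t hne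
    rw [← ht, Function.comp_apply, map_one]
  rw [h4] at ht
  exact congrFun ht g

end

end Cfsg.Agent.H687.Scheme
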