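import Mathlib
import Cfsg.Agent.H687.HeRow
import Cfsg.Agent.H34.SporJ2Row
import Cfsg.Agent.H34.SporHS
import Cfsg.Agent.H34.SporMcL
import Cfsg.Agent.H34.SporFi22
import Cfsg.Agent.H34.SporFi24
import Cfsg.Agent.H34.SporONRow
import Cfsg.Agent.H34.SporTits
import Cfsg.Agent.H34.SporCo1
import Cfsg.Agent.H34.SporCo23
import Cfsg.Agent.H34.SporHN
import Cfsg.Agent.H34.SporM
import Cfsg.Agent.H635.SporLyJ4
import Cfsg.Agent.H635.SporB
import Cfsg.Agent.H635.SporRuFi23
import Cfsg.Agent.H635.SporTh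

/-!
# S4834: the sporadic groups, primes `p > 3` with `p² ∣ |S|` (helper687)
-/

set_option autoImplicit false

namespace Cfsg.Agent.H687.SporAll

open Cfsg Cfsg.Agent.NotCT

universe u

theorem mem_of_dvd {p : ℕ} (hp : p.Prime) (l : List (ℕ × ℕ)) (hl : ∀ x ∈ l, x.1.Prime)
    (h : p ∣ (l.map fun x => x.1 ^ x.2).prod) : p ∈ l.map Prod.fst := by
  induction l with
  | nil => simp at h; exact absurd h hp.one_lt.ne'
  | cons a l ih =>
    rw [List.map_cons, List.prod_cons, hp.dvd_mul] at h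
    rcases h with h | h
    · have h1 := (Nat.prime_dvd_prime_iff_eq hp (hl a (by simp))).1 (hp.dvd_of_dvd_pow h)
      simp [h1]
    · exact List.mem_cons_of_mem _ (ih (fun x hx => hl x (by simp [hx])) h)

theorem mem_of_sq_dvd {p N : ℕ} (hp : p.Prime) (l : List (ℕ × ℕ)) (hl : ∀ x ∈ l, x.1.Prime)
    (hN : (l.map fun x => x.1 ^ x.2).prod = N) (h : p ^ 2 ∣ N) : p ∈ l.map Prod.fst := by
  subst hN
  exact mem_of_dvd hp l hl ((dvd_pow_self p two_ne_zero).trans h)

theorem good_m11 {S : Type u} [Group S] [IsSimpleGroup S] (h : Spor.IsoM11 S) {p : ℕ} (hp : p.Prime)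
    (hp3 : 3 < p) (h2 : p ^ 2 ∣ Nat.card S) : Good p S := by
  rw [Orders.m11 h] at h2
  have h3 := mem_of_sq_dvd hp [(2, 4), (3, 2), (5, 1), (11, 1)] (by norm_num) (by norm_num) h2
  simp only [List.map_cons, List.map_nil, List.mem_cons, List.not_mem_nil, or_false] at h3
  rcases h3 with rfl | rfl | rfl | rfl
  · omega
  · omega
  · norm_num at h2
  · norm_num at h2

theorem good_m12 {S : Type u} [Group S] [IsSimpleGroup S] (h : Spor.IsoM12 S) {p : ℕ} (hp : p.Prime)
    (hp3 : 3 < p) (h2 : p ^ 2 ∣ Nat.card S) : Good p S := by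
  rw [Orders.m12 h] at h2
  have h3 := mem_of_sq_dvd hp [(2, 6), (3, 3), (5, 1), (11, 1)] (by norm_num) (by norm_num) h2
  simp only [List.map_cons, List.map_nil, List.mem_cons, List.not_mem_nil, or_false] at h3
  rcases h3 with rfl | rfl | rfl | rfl
  · omega
  · omega
  · norm_num at h2
  · norm_num at h2

theorem good_m22 {S : Type u} [Group S] [IsSimpleGroup S] (h : Spor.IsoM22 S) {p : ℕ} (hp : p.Prime)
    (hp3 : 3 < p) (h2 : p ^ 2 ∣ Nat.card S) : Good p S := by
  rw [Orders.m22 h] at h2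
  have h3 := mem_of_sq_dvd hp [(2, 7), (3, 2), (5, 1), (7, 1), (11, 1)] (by norm_num) (by norm_num) h2
  simp only [List.map_cons, List.map_nil, List.mem_cons, List.not_mem_nil, or_false] at h3
  rcases h3 with rfl | rfl | rfl | rfl | rfl
  · omega
  · omega
  · norm_num at h2
  · norm_num at h2
  · norm_num at h2

theorem good_m23 {S : Type u} [Group S] [IsSimpleGroup S] (h : Spor.IsoM23 S) {p : ℕ} (hp : p.Prime)
    (hp3 : 3 < p) (h2 : p ^ 2 ∣ Nat.card S) : Good p S := by
  rw [Orders.m23 h] at h2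
  have h3 := mem_of_sq_dvd hp [(2, 7), (3, 2), (5, 1), (7, 1), (11, 1), (23, 1)] (by norm_num) (by norm_num) h2
  simp only [List.map_cons, List.map_nil, List.mem_cons, List.not_mem_nil, or_false] at h3
  rcases h3 with rfl | rfl | rfl | rfl | rfl | rfl
  · omega
  · omega
  · norm_num at h2
  · norm_num at h2
  · norm_num at h2
  · norm_num at h2

theorem good_m24 {S : Type u} [Group S] [IsSimpleGroup S] (h : Spor.IsoM24 S) {p : ℕ} (hp : p.Prime)
    (hp3 : 3 < p) (h2 : p ^ 2 ∣ Nat.card S) : Good p S := by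
  rw [Orders.m24 h] at h2
  have h3 := mem_of_sq_dvd hp [(2, 10), (3, 3), (5, 1), (7, 1), (11, 1), (23, 1)] (by norm_num) (by norm_num) h2
  simp only [List.map_cons, List.map_nil, List.mem_cons, List.not_mem_nil, or_false] at h3
  rcases h3 with rfl | rfl | rfl | rfl | rfl | rfl
  · omega
  · omega
  · norm_num at h2
  · norm_num at h2
  · norm_num at h2
  · norm_num at h2

theorem good_j1 {S : Type u} [Group S] [IsSimpleGroup S] (h : Spor.IsoJ1 S) {p : ℕ} (hp : p.Prime)
    (hp3 : 3 < p) (h2 : p ^ 2 ∣ Nat.card S) : Good p S := by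
  rw [Orders.j1 h] at h2
  have h3 := mem_of_sq_dvd hp [(2, 3), (3, 1), (5, 1), (7, 1), (11, 1), (19, 1)] (by norm_num) (by norm_num) h2
  simp only [List.map_cons, List.map_nil, List.mem_cons, List.not_mem_nil, or_false] at h3
  rcases h3 with rfl | rfl | rfl | rfl | rfl | rfl
  · omega
  · omega
  · norm_num at h2
  · norm_num at h2
  · norm_num at h2
  · norm_num at h2

theorem good_j2 {S : Type u} [Group S] [IsSimpleGroup S] (h : Spor.IsoJ2 S) {p : ℕ} (hp : p.Prime)
    (hp3 : 3 < p) (h2 : p ^ 2 ∣ Nat.card S) : Good p S := by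
  rw [Orders.j2 h] at h2
  have h3 := mem_of_sq_dvd hp [(2, 7), (3, 3), (5, 2), (7, 1)] (by norm_num) (by norm_num) h2
  simp only [List.map_cons, List.map_nil, List.mem_cons, List.not_mem_nil, or_false] at h3
  rcases h3 with rfl | rfl | rfl | rfl
  · omega
  · omega
  · exact H34.SporJ2Row.good_J2 h
  · norm_num at h2

theorem good_j3 {S : Type u} [Group S] [IsSimpleGroup S] (h : Spor.IsoJ3 S) {p : ℕ} (hp : p.Prime)
    (hp3 : 3 < p) (h2 : p ^ 2 ∣ Nat.card S) : Good p S := by
  rw [Orders.j3 h] at h2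
  have h3 := mem_of_sq_dvd hp [(2, 7), (3, 5), (5, 1), (17, 1), (19, 1)] (by norm_num) (by norm_num) h2
  simp only [List.map_cons, List.map_nil, List.mem_cons, List.not_mem_nil, or_false] at h3
  rcases h3 with rfl | rfl | rfl | rfl | rfl
  · omega
  · omega
  · norm_num at h2
  · norm_num at h2
  · norm_num at h2

theorem good_j4 {S : Type u} [Group S] [IsSimpleGroup S] (h : Spor.IsoJ4 S) {p : ℕ} (hp : p.Prime)
    (hp3 : 3 < p) (h2 : p ^ 2 ∣ Nat.card S) : Good p S := by
  rw [Orders.j4 h] at h2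
  have h3 := mem_of_sq_dvd hp [(2, 21), (3, 3), (5, 1), (7, 1), (11, 3), (23, 1), (29, 1), (31, 1), (37, 1), (43, 1)] (by norm_num) (by norm_num) h2
  simp only [List.map_cons, List.map_nil, List.mem_cons, List.not_mem_nil, or_false] at h3
  rcases h3 with rfl | rfl | rfl | rfl | rfl | rfl | rfl | rfl | rfl | rfl
  · omega
  · omega
  · norm_num at h2
  · norm_num at h2
  · exact H635.Spor.good_j4_11 h
  · norm_num at h2
  · norm_num at h2
  · norm_num at h2
  · norm_num at h2
  · norm_num at h2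

theorem good_co1 {S : Type u} [Group S] [IsSimpleGroup S] (h : Spor.IsoCo1 S) {p : ℕ} (hp : p.Prime)
    (hp3 : 3 < p) (h2 : p ^ 2 ∣ Nat.card S) : Good p S := by
  rw [Orders.co1 h] at h2
  have h3 := mem_of_sq_dvd hp [(2, 21), (3, 9), (5, 4), (7, 2), (11, 1), (13, 1), (23, 1)] (by norm_num) (by norm_num) h2
  simp only [List.map_cons, List.map_nil, List.mem_cons, List.not_mem_nil, or_false] at h3
  rcases h3 with rfl | rfl | rfl | rfl | rfl | rfl | rfl
  · omega
  · omega
  · exact H34.SporCo1.good_Co1 h (by simp)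
  · exact H34.SporCo1.good_Co1 h (by simp)
  · norm_num at h2
  · norm_num at h2
  · norm_num at h2

theorem good_co2 {S : Type u} [Group S] [IsSimpleGroup S] (h : Spor.IsoCo2 S) {p : ℕ} (hp : p.Prime)
    (hp3 : 3 < p) (h2 : p ^ 2 ∣ Nat.card S) : Good p S := by
  rw [Orders.co2 h] at h2
  have h3 := mem_of_sq_dvd hp [(2, 18), (3, 6), (5, 3), (7, 1), (11, 1), (23, 1)] (by norm_num) (by norm_num) h2
  simp only [List.map_cons, List.map_nil, List.mem_cons, List.not_mem_nil, or_false] at h3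
  rcases h3 with rfl | rfl | rfl | rfl | rfl | rfl
  · omega
  · omega
  · exact H34.SporCo23.good_Co2 h
  · norm_num at h2
  · norm_num at h2
  · norm_num at h2

theorem good_co3 {S : Type u} [Group S] [IsSimpleGroup S] (h : Spor.IsoCo3 S) {p : ℕ} (hp : p.Prime)
    (hp3 : 3 < p) (h2 : p ^ 2 ∣ Nat.card S) : Good p S := by
  rw [Orders.co3 h] at h2
  have h3 := mem_of_sq_dvd hp [(2, 10), (3, 7), (5, 3), (7, 1), (11, 1), (23, 1)] (by norm_num) (by norm_num) h2
  simp only [List.map_cons, List.map_nil, List.mem_cons, List.not_mem_nil, or_false] at h3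
  rcases h3 with rfl | rfl | rfl | rfl | rfl | rfl
  · omega
  · omega
  · exact H34.SporCo23.good_Co3 h
  · norm_num at h2
  · norm_num at h2
  · norm_num at h2

theorem good_mcl {S : Type u} [Group S] [IsSimpleGroup S] (h : Spor.IsoMcL S) {p : ℕ} (hp : p.Prime)
    (hp3 : 3 < p) (h2 : p ^ 2 ∣ Nat.card S) : Good p S := by
  rw [Orders.mcl h] at h2
  have h3 := mem_of_sq_dvd hp [(2, 7), (3, 6), (5, 3), (7, 1), (11, 1)] (by norm_num) (by norm_num) h2
  simp only [List.map_cons, List.map_nil, List.mem_cons, List.not_mem_nil, or_false] at h3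
  rcases h3 with rfl | rfl | rfl | rfl | rfl
  · omega
  · omega
  · exact H34.SporMcL.good_McL h
  · norm_num at h2
  · norm_num at h2

theorem good_hs {S : Type u} [Group S] [IsSimpleGroup S] (h : Spor.IsoHS S) {p : ℕ} (hp : p.Prime)
    (hp3 : 3 < p) (h2 : p ^ 2 ∣ Nat.card S) : Good p S := by
  rw [Orders.hs h] at h2
  have h3 := mem_of_sq_dvd hp [(2, 9), (3, 2), (5, 3), (7, 1), (11, 1)] (by norm_num) (by norm_num) h2
  simp only [List.map_cons, List.map_nil, List.mem_cons, List.not_mem_nil, or_false] at h3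
  rcases h3 with rfl | rfl | rfl | rfl | rfl
  · omega
  · omega
  · exact H34.SporHS.good_HS h
  · norm_num at h2
  · norm_num at h2

theorem good_suz {S : Type u} [Group S] [IsSimpleGroup S] (h : Spor.IsoSuz S) {p : ℕ} (hp : p.Prime)
    (hp3 : 3 < p) (h2 : p ^ 2 ∣ Nat.card S) : Good p S := by
  rw [Orders.suz h] at h2
  have h3 := mem_of_sq_dvd hp [(2, 13), (3, 7), (5, 2), (7, 1), (11, 1), (13, 1)] (by norm_num) (by norm_num) h2
  simp only [List.map_cons, List.map_nil, List.mem_cons, List.not_mem_nil, or_false] at h3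
  rcases h3 with rfl | rfl | rfl | rfl | rfl | rfl
  · omega
  · omega
  · exact H34.SporJ2Row.good_Suz h
  · norm_num at h2
  · norm_num at h2
  · norm_num at h2

theorem good_he {S : Type u} [Group S] [IsSimpleGroup S] (h : Spor.IsoHe S) {p : ℕ} (hp : p.Prime)
    (hp3 : 3 < p) (h2 : p ^ 2 ∣ Nat.card S) : Good p S := by
  rw [Orders.he h] at h2
  have h3 := mem_of_sq_dvd hp [(2, 10), (3, 3), (5, 2), (7, 3), (17, 1)] (by norm_num) (by norm_num) h2
  simp only [List.map_cons, List.map_nil, List.mem_cons, List.not_mem_nil, or_false] at h3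
  rcases h3 with rfl | rfl | rfl | rfl | rfl
  · omega
  · omega
  · exact HeRow.good_He_five h
  · exact HeRow.good_He_seven h
  · norm_num at h2

theorem good_ru {S : Type u} [Group S] [IsSimpleGroup S] (h : Spor.IsoRu S) {p : ℕ} (hp : p.Prime)
    (hp3 : 3 < p) (h2 : p ^ 2 ∣ Nat.card S) : Good p S := by
  rw [Orders.ru h] at h2
  have h3 := mem_of_sq_dvd hp [(2, 14), (3, 3), (5, 3), (7, 1), (13, 1), (29, 1)] (by norm_num) (by norm_num) h2
  simp only [List.map_cons, List.map_nil, List.mem_cons, List.not_mem_nil, or_false] at h3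
  rcases h3 with rfl | rfl | rfl | rfl | rfl | rfl
  · omega
  · omega
  · exact H635.Spor.good_ru_5 h
  · norm_num at h2
  · norm_num at h2
  · norm_num at h2

theorem good_on {S : Type u} [Group S] [IsSimpleGroup S] (h : Spor.IsoON S) {p : ℕ} (hp : p.Prime)
    (hp3 : 3 < p) (h2 : p ^ 2 ∣ Nat.card S) : Good p S := by
  rw [Orders.on h] at h2
  have h3 := mem_of_sq_dvd hp [(2, 9), (3, 4), (5, 1), (7, 3), (11, 1), (19, 1), (31, 1)] (by norm_num) (by norm_num) h2
  simp only [List.map_cons, List.map_nil, List.mem_cons, List.not_mem_nil, or_false] at h3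
  rcases h3 with rfl | rfl | rfl | rfl | rfl | rfl | rfl
  · omega
  · omega
  · norm_num at h2
  · exact H34.SporONRow.good_ON h
  · norm_num at h2
  · norm_num at h2
  · norm_num at h2

theorem good_ly {S : Type u} [Group S] [IsSimpleGroup S] (h : Spor.IsoLy S) {p : ℕ} (hp : p.Prime)
    (hp3 : 3 < p) (h2 : p ^ 2 ∣ Nat.card S) : Good p S := by
  rw [Orders.ly h] at h2
  have h3 := mem_of_sq_dvd hp [(2, 8), (3, 7), (5, 6), (7, 1), (11, 1), (31, 1), (37, 1), (67, 1)] (by norm_num) (by norm_num) h2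
  simp only [List.map_cons, List.map_nil, List.mem_cons, List.not_mem_nil, or_false] at h3
  rcases h3 with rfl | rfl | rfl | rfl | rfl | rfl | rfl | rfl
  · omega
  · omega
  · exact H635.Spor.good_ly_5 h
  · norm_num at h2
  · norm_num at h2
  · norm_num at h2
  · norm_num at h2
  · norm_num at h2

theorem good_fi22 {S : Type u} [Group S] [IsSimpleGroup S] (h : Spor.IsoFi22 S) {p : ℕ} (hp : p.Prime)
    (hp3 : 3 < p) (h2 : p ^ 2 ∣ Nat.card S) : Good p S := by
  rw [Orders.fi22 h] at h2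
  have h3 := mem_of_sq_dvd hp [(2, 17), (3, 9), (5, 2), (7, 1), (11, 1), (13, 1)] (by norm_num) (by norm_num) h2
  simp only [List.map_cons, List.map_nil, List.mem_cons, List.not_mem_nil, or_false] at h3
  rcases h3 with rfl | rfl | rfl | rfl | rfl | rfl
  · omega
  · omega
  · exact H34.SporFi22.good_Fi22 h
  · norm_num at h2
  · norm_num at h2
  · norm_num at h2

theorem good_fi23 {S : Type u} [Group S] [IsSimpleGroup S] (h : Spor.IsoFi23 S) {p : ℕ} (hp : p.Prime)
    (hp3 : 3 < p) (h2 : p ^ 2 ∣ Nat.card S) : Good p S := by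
  rw [Orders.fi23 h] at h2
  have h3 := mem_of_sq_dvd hp [(2, 18), (3, 13), (5, 2), (7, 1), (11, 1), (13, 1), (17, 1), (23, 1)] (by norm_num) (by norm_num) h2
  simp only [List.map_cons, List.map_nil, List.mem_cons, List.not_mem_nil, or_false] at h3
  rcases h3 with rfl | rfl | rfl | rfl | rfl | rfl | rfl | rfl
  · omega
  · omega
  · exact H635.Spor.good_fi23_5 h
  · norm_num at h2
  · norm_num at h2
  · norm_num at h2
  · norm_num at h2
  · norm_num at h2

theorem good_fi24 {S : Type u} [Group S] [IsSimpleGroup S] (h : Spor.IsoFi24' S) {p : ℕ} (hp : p.Prime)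
    (hp3 : 3 < p) (h2 : p ^ 2 ∣ Nat.card S) : Good p S := by
  rw [Orders.fi24 h] at h2
  have h3 := mem_of_sq_dvd hp [(2, 21), (3, 16), (5, 2), (7, 3), (11, 1), (13, 1), (17, 1), (23, 1), (29, 1)] (by norm_num) (by norm_num) h2
  simp only [List.map_cons, List.map_nil, List.mem_cons, List.not_mem_nil, or_false] at h3
  rcases h3 with rfl | rfl | rfl | rfl | rfl | rfl | rfl | rfl | rfl
  · omega
  · omega
  · exact H34.SporFi24.good_Fi24 h (by simp)
  · exact H34.SporFi24.good_Fi24 h (by simp)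
  · norm_num at h2
  · norm_num at h2
  · norm_num at h2
  · norm_num at h2
  · norm_num at h2

theorem good_hn {S : Type u} [Group S] [IsSimpleGroup S] (h : Spor.IsoHN S) {p : ℕ} (hp : p.Prime)
    (hp3 : 3 < p) (h2 : p ^ 2 ∣ Nat.card S) : Good p S := by
  rw [Orders.hn h] at h2
  have h3 := mem_of_sq_dvd hp [(2, 14), (3, 6), (5, 6), (7, 1), (11, 1), (19, 1)] (by norm_num) (by norm_num) h2
  simp only [List.map_cons, List.map_nil, List.mem_cons, List.not_mem_nil, or_false] at h3
  rcases h3 with rfl | rfl | rfl | rfl | rfl | rfl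
  · omega
  · omega
  · exact H34.SporHN.good_HN h
  · norm_num at h2
  · norm_num at h2
  · norm_num at h2

theorem good_th {S : Type u} [Group S] [IsSimpleGroup S] (h : Spor.IsoTh S) {p : ℕ} (hp : p.Prime)
    (hp3 : 3 < p) (h2 : p ^ 2 ∣ Nat.card S) : Good p S := by
  rw [Orders.th h] at h2
  have h3 := mem_of_sq_dvd hp [(2, 15), (3, 10), (5, 3), (7, 2), (13, 1), (19, 1), (31, 1)] (by norm_num) (by norm_num) h2
  simp only [List.map_cons, List.map_nil, List.mem_cons, List.not_mem_nil, or_false] at h3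
  rcases h3 with rfl | rfl | rfl | rfl | rfl | rfl | rfl
  · omega
  · omega
  · exact H635.Spor.good_th h (by simp)
  · exact H635.Spor.good_th h (by simp)
  · norm_num at h2
  · norm_num at h2
  · norm_num at h2

theorem good_b {S : Type u} [Group S] [IsSimpleGroup S] (h : Spor.IsoB S) {p : ℕ} (hp : p.Prime)
    (hp3 : 3 < p) (h2 : p ^ 2 ∣ Nat.card S) : Good p S := by
  rw [Orders.b h] at h2
  have h3 := mem_of_sq_dvd hp [(2, 41), (3, 13), (5, 6), (7, 2), (11, 1), (13, 1), (17, 1), (19, 1), (23, 1), (31, 1), (47, 1)] (by norm_num) (by norm_num) h2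
  simp only [List.map_cons, List.map_nil, List.mem_cons, List.not_mem_nil, or_false] at h3
  rcases h3 with rfl | rfl | rfl | rfl | rfl | rfl | rfl | rfl | rfl | rfl | rfl
  · omega
  · omega
  · exact H635.Spor.good_b_5 h
  · exact H635.Spor.good_b_7 h
  · norm_num at h2
  · norm_num at h2
  · norm_num at h2
  · norm_num at h2
  · norm_num at h2
  · norm_num at h2
  · norm_num at h2

theorem good_m {S : Type u} [Group S] [IsSimpleGroup S] (h : Spor.IsoM S) {p : ℕ} (hp : p.Prime)
    (hp3 : 3 < p) (h2 : p ^ 2 ∣ Nat.card S) : Good p S := by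
  rw [Orders.m h] at h2
  have h3 := mem_of_sq_dvd hp [(2, 46), (3, 20), (5, 9), (7, 6), (11, 2), (13, 3), (17, 1), (19, 1), (23, 1), (29, 1), (31, 1), (41, 1), (47, 1), (59, 1), (71, 1)] (by norm_num) (by norm_num) h2
  simp only [List.map_cons, List.map_nil, List.mem_cons, List.not_mem_nil, or_false] at h3
  rcases h3 with rfl | rfl | rfl | rfl | rfl | rfl | rfl | rfl | rfl | rfl | rfl | rfl | rfl | rfl | rfl
  · omega
  · omega
  · exact H34.SporM.good_M h (by simp)
  · exact H34.SporM.good_M h (by simp)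
  · exact H34.SporM.good_M h (by simp)
  · exact H34.SporM.good_M h (by simp)
  · norm_num at h2
  · norm_num at h2
  · norm_num at h2
  · norm_num at h2
  · norm_num at h2
  · norm_num at h2
  · norm_num at h2
  · norm_num at h2
  · norm_num at h2

/-- **The sporadic groups.** -/
theorem good_spor {S : Type u} [Group S] [IsSimpleGroup S] (h : IsSporadicGroup S) {p : ℕ} (hp : p.Prime)
    (hp3 : 3 < p) (h2 : p ^ 2 ∣ Nat.card S) : Good p S := by
  rcases h with h | h | h | h | h | h | h | h | h | h | h | h | h | h | h | h | h | h | h | h | h | h | h | h | h | h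
  · exact good_m11 h hp hp3 h2
  · exact good_m12 h hp hp3 h2
  · exact good_m22 h hp hp3 h2
  · exact good_m23 h hp hp3 h2
  · exact good_m24 h hp hp3 h2
  · exact good_j1 h hp hp3 h2
  · exact good_j2 h hp hp3 h2
  · exact good_j3 h hp hp3 h2
  · exact good_j4 h hp hp3 h2
  · exact good_co1 h hp hp3 h2
  · exact good_co2 h hp hp3 h2
  · exact good_co3 h hp hp3 h2
  · exact good_mcl h hp hp3 h2
  · exact good_hs h hp hp3 h2
  · exact good_suz h hp hp3 h2
  · exact good_he h hp hp3 h2
  · exact good_ru h hp hp3 h2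
  · exact good_on h hp hp3 h2
  · exact good_ly h hp hp3 h2
  · exact good_fi22 h hp hp3 h2
  · exact good_fi23 h hp hp3 h2
  · exact good_fi24 h hp hp3 h2
  · exact good_hn h hp hp3 h2
  · exact good_th h hp hp3 h2
  · exact good_b h hp hp3 h2
  · exact good_m h hp hp3 h2

/-- **The Tits group.** -/
theorem good_tits {S : Type u} [Group S] [IsSimpleGroup S] (h : Lie.IsoTits S) {p : ℕ} (hp : p.Prime) (hp3 : 3 < p)
    (h2 : p ^ 2 ∣ Nat.card S) : Good p S := by
  rw [Orders.tits h] at h2
  have h3 := mem_of_sq_dvd hp [(2, 11), (3, 3), (5, 2), (13, 1)] (by norm_num) (by norm_num) h2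
  simp only [List.map_cons, List.map_nil, List.mem_cons, List.not_mem_nil, or_false] at h3
  rcases h3 with rfl | rfl | rfl | rfl
  · omega
  · omega
  · exact H34.SporTits.good_Tits h
  · norm_num at h2

end Cfsg.Agent.H687.SporAll
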